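import Cfsg.Agent.Characters.Central
import Cfsg.Agent.Characters.Counting
import Cfsg.Agent.Characters.Linear

/-!
# S4884, own odd characteristic: spherical functions (helper684)

`lam` a linear character of the subgroup `B` of the finite group `G`; `φ : G → ℂ` satisfies
`∑ b : B, lam b⁻¹ * φ (x b y) = |B| φ x φ y`, `φ 1 = 1`. Then there is an irreducible character `χ` of `G` with
`⟨χ_B, lam⟩ = 1` and `χ 1 * ∑ g, φ g * φ g⁻¹ = |G|`.
-/

set_option autoImplicit false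

open scoped ComplexConjugate
open Cfsg

namespace Cfsg.Agent.H684.OQ

open Cfsg.Agent.Characters Cfsg.Agent.Characters.Core

universe u

variable {G : Type u} [Group G] [Fintype G] (B : Subgroup G) [Fintype B] (lam : B →* ℂˣ)

/-- the functional equation of spherical functions -/
structure Spherical (φ : G → ℂ) : Prop where
  one : φ 1 = 1
  eq : ∀ x y : G, ∑ b : B, (((lam b)⁻¹ : ℂˣ) : ℂ) * φ (x * b * y) = (Nat.card B : ℂ) * (φ x * φ y)

variable {B lam} {φ : G → ℂ}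

omit [Fintype G] in
theorem Spherical.left (h : Spherical B lam φ) (b : B) (y : G) : φ (b * y) = (lam b : ℂ) * φ y := by
  have hB : (Nat.card B : ℂ) ≠ 0 := card_ne_zero_complex
  have h1 := h.eq 1 (b * y)
  have h2 := h.eq 1 y
  rw [h.one, one_mul] at h1 h2
  have h3 : ∑ b' : B, (((lam b')⁻¹ : ℂˣ) : ℂ) * φ (1 * b' * (b * y)) =
      (lam b : ℂ) * ∑ b' : B, (((lam b')⁻¹ : ℂˣ) : ℂ) * φ (1 * b' * y) := by
    rw [Finset.mul_sum]
    refine Fintype.sum_equiv (Equiv.mulRight b) _ _ fun c => ?_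
    have e0 : (lam b : ℂ) * (((lam b)⁻¹ : ℂˣ) : ℂ) = 1 := Units.mul_inv _
    have e1 : (1 : G) * c * (b * y) = 1 * (c * b) * y := by group
    rw [Equiv.coe_mulRight, map_mul, mul_inv, Subgroup.coe_mul, Units.val_mul, e1]
    linear_combination (-((((lam c)⁻¹ : ℂˣ) : ℂ) * φ (1 * (c * b) * y))) * e0
  rw [h3, h2] at h1
  have h4 : (Nat.card B : ℂ) * φ (b * y) = (Nat.card B : ℂ) * ((lam b : ℂ) * φ y) := by
    rw [← h1]; ring
  exact mul_left_cancel₀ hB h4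

omit [Fintype G] in
theorem Spherical.right (h : Spherical B lam φ) (b : B) (y : G) : φ (y * b) = (lam b : ℂ) * φ y := by
  have hB : (Nat.card B : ℂ) ≠ 0 := card_ne_zero_complex
  have h1 := h.eq (y * b) 1
  have h2 := h.eq y 1
  rw [h.one, mul_one] at h1 h2
  have h3 : ∑ b' : B, (((lam b')⁻¹ : ℂˣ) : ℂ) * φ (y * b * b' * 1) =
      (lam b : ℂ) * ∑ b' : B, (((lam b')⁻¹ : ℂˣ) : ℂ) * φ (y * b' * 1) := by
    rw [Finset.mul_sum]
    refine Fintype.sum_equiv (Equiv.mulLeft b) _ _ fun c => ?_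
    have e0 : (lam b : ℂ) * (((lam b)⁻¹ : ℂˣ) : ℂ) = 1 := Units.mul_inv _
    have e1 : y * b * c * 1 = y * (b * c) * 1 := by group
    rw [Equiv.coe_mulLeft, map_mul, mul_inv, Subgroup.coe_mul, Units.val_mul, e1]
    linear_combination (-((((lam c)⁻¹ : ℂˣ) : ℂ) * φ (y * (b * c) * 1))) * e0
  rw [h3, h2] at h1
  have h4 : (Nat.card B : ℂ) * φ (y * b) = (Nat.card B : ℂ) * ((lam b : ℂ) * φ y) := by
    rw [← h1]; ring
  exact mul_left_cancel₀ hB h4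

/-- the component of `φ` at `χ` -/
noncomputable def cmp (χ φ : G → ℂ) : ℂ := χ 1 / (Nat.card G : ℂ) * ∑ g : G, χ g⁻¹ * φ g

theorem sum_cmp [Fintype (IrrCharacter G)] (h : Spherical B lam φ) :
    ∑ χ : IrrCharacter G, cmp (χ : G → ℂ) φ = 1 := by
  classical
  have hG : (Nat.card G : ℂ) ≠ 0 := card_ne_zero_complex
  have e : ∀ χ : IrrCharacter G, cmp (χ : G → ℂ) φ =
      ∑ g : G, φ g / (Nat.card G : ℂ) * ((χ : G → ℂ) 1 * (χ : G → ℂ) g⁻¹) := by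
    intro χ
    unfold cmp
    rw [Finset.mul_sum]
    refine Finset.sum_congr rfl fun g _ => ?_
    ring
  rw [Finset.sum_congr rfl fun χ _ => e χ, Finset.sum_comm]
  have e2 : ∀ g : G, ∑ χ : IrrCharacter G, φ g / (Nat.card G : ℂ) * ((χ : G → ℂ) 1 * (χ : G → ℂ) g⁻¹) =
      if g = 1 then 1 else 0 := by
    intro g
    rw [← Finset.mul_sum, Counting.sum_irr_one_mul]
    by_cases hg : g = 1
    · subst hg
      rw [if_pos inv_one, if_pos rfl, h.one, div_mul_cancel₀ _ hG]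
    · rw [if_neg (fun h1 => hg (inv_eq_one.1 h1)), if_neg hg, mul_zero]
  rw [Finset.sum_congr rfl fun g _ => e2 g, Finset.sum_ite_eq' Finset.univ (1 : G) (fun _ => (1 : ℂ)),
    if_pos (Finset.mem_univ _)]

/-- `Φ(e_χ y) = Φ(e_χ) φ(y)` -/
theorem cmp_mul (h : Spherical B lam φ) {χ : G → ℂ} (hχ : IsIrrCharacter G χ) (y : G) :
    χ 1 / (Nat.card G : ℂ) * ∑ g : G, χ g⁻¹ * φ (g * y) = cmp χ φ * φ y := by
  have hB : (Nat.card B : ℂ) ≠ 0 := card_ne_zero_complex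
  have hcl := isIrr_isClassFunction hχ
  have h1 : ∀ b : B, ∑ g : G, χ g⁻¹ * φ (g * b * y) = (lam b : ℂ) * ∑ g : G, χ g⁻¹ * φ (g * y) := by
    intro b
    rw [Finset.mul_sum]
    refine Fintype.sum_equiv ((Equiv.mulLeft (b : G)⁻¹).trans (Equiv.mulRight (b : G))) _ _ fun g => ?_
    have e1 : ((Equiv.mulLeft (b : G)⁻¹).trans (Equiv.mulRight (b : G))) g = (b : G)⁻¹ * g * b := rfl
    rw [e1]
    have e2 : χ ((b : G)⁻¹ * g * b)⁻¹ = χ g⁻¹ := by
      rw [← hcl ((b : G)⁻¹ * g * b)⁻¹ b]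
      congr 1
      group
    have e3 : g * b * y = b * ((b : G)⁻¹ * g * b * y) := by group
    rw [e2, e3, h.left]
    ring
  have h2 : ∑ b : B, (((lam b)⁻¹ : ℂˣ) : ℂ) * ∑ g : G, χ g⁻¹ * φ (g * b * y) =
      (Nat.card B : ℂ) * ∑ g : G, χ g⁻¹ * φ (g * y) := by
    have e : ∀ b : B, (((lam b)⁻¹ : ℂˣ) : ℂ) * ∑ g : G, χ g⁻¹ * φ (g * b * y) = ∑ g : G, χ g⁻¹ * φ (g * y) := by
      intro b
      rw [h1, ← mul_assoc, Units.inv_mul, one_mul]
    rw [Finset.sum_congr rfl fun b _ => e b, Finset.sum_const, nsmul_eq_mul, Finset.card_univ, Nat.card_eq_fintype_card]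
  have h3 : ∑ b : B, (((lam b)⁻¹ : ℂˣ) : ℂ) * ∑ g : G, χ g⁻¹ * φ (g * b * y) =
      (Nat.card B : ℂ) * ((∑ g : G, χ g⁻¹ * φ g) * φ y) := by
    simp only [Finset.mul_sum]
    rw [Finset.sum_comm, Finset.sum_mul, Finset.mul_sum]
    refine Finset.sum_congr rfl fun g _ => ?_
    have e : ∀ b : B, (((lam b)⁻¹ : ℂˣ) : ℂ) * (χ g⁻¹ * φ (g * b * y)) =
        χ g⁻¹ * ((((lam b)⁻¹ : ℂˣ) : ℂ) * φ (g * b * y)) := fun b => by ring
    rw [Finset.sum_congr rfl fun b _ => e b, ← Finset.mul_sum, h.eq]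
    ring
  have h4 := mul_left_cancel₀ hB (h2.symm.trans h3)
  rw [h4]
  unfold cmp
  ring

theorem cmp_sq (h : Spherical B lam φ) {χ : G → ℂ} (hχ : IsIrrCharacter G χ) : cmp χ φ * cmp χ φ = cmp χ φ := by
  have hG : (Nat.card G : ℂ) ≠ 0 := card_ne_zero_complex
  have h0 := isIrr_apply_one_ne_zero hχ
  -- `∑_y χ(y⁻¹) ∑_g χ(g⁻¹) φ(g y)` in two ways
  have h1 : ∑ y : G, χ y⁻¹ * (χ 1 / (Nat.card G : ℂ) * ∑ g : G, χ g⁻¹ * φ (g * y)) =
      cmp χ φ * ∑ y : G, χ y⁻¹ * φ y := by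
    rw [Finset.mul_sum]
    refine Finset.sum_congr rfl fun y _ => ?_
    rw [cmp_mul h hχ y]
    ring
  have h2 : ∑ y : G, χ y⁻¹ * (χ 1 / (Nat.card G : ℂ) * ∑ g : G, χ g⁻¹ * φ (g * y)) = ∑ y : G, χ y⁻¹ * φ y := by
    have e1 : ∀ y : G, χ y⁻¹ * (χ 1 / (Nat.card G : ℂ) * ∑ g : G, χ g⁻¹ * φ (g * y)) =
        ∑ z : G, χ 1 / (Nat.card G : ℂ) * φ z * (χ y⁻¹ * χ (y * z⁻¹)) := by
      intro y
      rw [Finset.mul_sum, Finset.mul_sum]
      refine Fintype.sum_equiv (Equiv.mulRight y) _ _ fun g => ?_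
      rw [Equiv.coe_mulRight]
      have : y * (g * y)⁻¹ = g⁻¹ := by group
      rw [this]
      ring
    rw [Finset.sum_congr rfl fun y _ => e1 y, Finset.sum_comm]
    refine Finset.sum_congr rfl fun z _ => ?_
    rw [← Finset.mul_sum]
    have e2 : ∑ y : G, χ y⁻¹ * χ (y * z⁻¹) = (Nat.card G : ℂ) * χ z⁻¹ / χ 1 := by
      rw [← Central.sum_char_mul_char_inv_mul hχ z⁻¹]
      refine Fintype.sum_equiv (Equiv.inv G) _ _ fun y => ?_
      rw [Equiv.inv_apply, inv_inv]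
    rw [e2]
    field_simp
  rw [h2] at h1
  have h3 : cmp χ φ = χ 1 / (Nat.card G : ℂ) * (cmp χ φ * ∑ y : G, χ y⁻¹ * φ y) := by
    rw [← h1]
    rfl
  conv_rhs => rw [h3]
  rw [← mul_assoc, mul_comm (χ 1 / (Nat.card G : ℂ)), mul_assoc]
  rfl

/-- **The character of a spherical function.** -/
theorem exists_irr (h : Spherical B lam φ) : ∃ χ : G → ℂ, IsIrrCharacter G χ ∧
    χ 1 * ∑ g : G, φ g * φ g⁻¹ = (Nat.card G : ℂ) ∧
    ∑ b : B, (((lam b)⁻¹ : ℂˣ) : ℂ) * χ b = (Nat.card B : ℂ) := by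
  classical
  have hG : (Nat.card G : ℂ) ≠ 0 := card_ne_zero_complex
  have hB : (Nat.card B : ℂ) ≠ 0 := card_ne_zero_complex
  have : Finite (IrrCharacter G) := finite_irr
  have := Fintype.ofFinite (IrrCharacter G)
  obtain ⟨χ, hne⟩ : ∃ χ : IrrCharacter G, cmp (χ : G → ℂ) φ ≠ 0 := by
    by_contra hcon
    push Not at hcon
    have h1 := sum_cmp h
    rw [Finset.sum_congr rfl fun χ _ => hcon χ, Finset.sum_const_zero] at h1
    exact zero_ne_one h1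
  obtain ⟨χ, hχ⟩ := χ
  simp only at hne
  have hcl := isIrr_isClassFunction hχ
  have h0 := isIrr_apply_one_ne_zero hχ
  have hc : cmp χ φ = 1 := by
    have h1 := cmp_sq h hχ
    exact mul_left_cancel₀ hne (by rw [h1, mul_one])
  -- the function `φ` through `χ`
  have hφ : ∀ y : G, φ y = χ 1 / (Nat.card G : ℂ) * ∑ z : G, φ z * χ (y * z⁻¹) := by
    intro y
    have h1 := cmp_mul h hχ y
    rw [hc, one_mul] at h1
    rw [← h1]
    congr 1
    refine Fintype.sum_equiv (Equiv.mulRight y) _ _ fun g => ?_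
    rw [Equiv.coe_mulRight]
    have : y * (g * y)⁻¹ = g⁻¹ := by group
    rw [this]
    ring
  have hA : ∑ z : G, φ z * χ z⁻¹ = (Nat.card G : ℂ) / χ 1 := by
    have h1 : χ 1 / (Nat.card G : ℂ) * ∑ z : G, φ z * χ z⁻¹ = 1 := by
      rw [← hc]
      unfold cmp
      congr 1
      exact Finset.sum_congr rfl fun z _ => mul_comm _ _
    rw [div_mul_eq_mul_div, div_eq_one_iff_eq hG] at h1
    rw [eq_div_iff h0, mul_comm]
    exact h1
  have hC : ∀ x : G, ∑ g : G, φ (g * x * g⁻¹) = (Nat.card G : ℂ) / χ 1 * χ x := by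
    intro x
    have e1 : ∀ g : G, φ (g * x * g⁻¹) = ∑ z : G, χ 1 / (Nat.card G : ℂ) * φ z * χ (g * x * g⁻¹ * z⁻¹) := by
      intro g
      rw [hφ, Finset.mul_sum]
      exact Finset.sum_congr rfl fun z _ => by ring
    rw [Finset.sum_congr rfl fun g _ => e1 g, Finset.sum_comm]
    have e2 : ∀ z : G, ∑ g : G, χ 1 / (Nat.card G : ℂ) * φ z * χ (g * x * g⁻¹ * z⁻¹) = χ x * (φ z * χ z⁻¹) := by
      intro z
      rw [← Finset.mul_sum, Central.sum_char_conj_mul hχ]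
      field_simp
    rw [Finset.sum_congr rfl fun z _ => e2 z, ← Finset.mul_sum, hA]
    ring
  set S : ℂ := ∑ g : G, φ g * φ g⁻¹ with hS
  -- the spherical function of `χ`
  have hD : ∀ x : G, (Nat.card B : ℂ) * (φ x * S) =
      (Nat.card G : ℂ) / χ 1 * ∑ b : B, (((lam b)⁻¹ : ℂˣ) : ℂ) * χ (b * x) := by
    intro x
    have e1 : ∀ b b' : B, ∑ g : G, φ (g * (b * x * b') * g⁻¹) = (Nat.card G : ℂ) / χ 1 * χ (b * x * b') :=
      fun b b' => hC _
    have e2 : ∑ b : B, ∑ b' : B, (((lam b)⁻¹ : ℂˣ) : ℂ) * (((lam b')⁻¹ : ℂˣ) : ℂ) *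
        ∑ g : G, φ (g * (b * x * b') * g⁻¹) = (Nat.card B : ℂ) * ((Nat.card B : ℂ) * (φ x * S)) := by
      have e3 : ∀ g : G, ∑ b : B, ∑ b' : B, (((lam b)⁻¹ : ℂˣ) : ℂ) * (((lam b')⁻¹ : ℂˣ) : ℂ) *
          φ (g * (b * x * b') * g⁻¹) = (Nat.card B : ℂ) * ((Nat.card B : ℂ) * (φ x * (φ g * φ g⁻¹))) := by
        intro g
        have e4 : ∀ b : B, ∑ b' : B, (((lam b)⁻¹ : ℂˣ) : ℂ) * (((lam b')⁻¹ : ℂˣ) : ℂ) *
            φ (g * (b * x * b') * g⁻¹) =
            (((lam b)⁻¹ : ℂˣ) : ℂ) * φ (g * b * x) * ((Nat.card B : ℂ) * φ g⁻¹) := by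
          intro b
          have e5 : ∀ b' : B, (((lam b)⁻¹ : ℂˣ) : ℂ) * (((lam b')⁻¹ : ℂˣ) : ℂ) * φ (g * (b * x * b') * g⁻¹) =
              (((lam b)⁻¹ : ℂˣ) : ℂ) * ((((lam b')⁻¹ : ℂˣ) : ℂ) * φ ((g * b * x) * b' * g⁻¹)) := by
            intro b'
            rw [mul_assoc]
            congr 3
            group
          rw [Finset.sum_congr rfl fun b' _ => e5 b', ← Finset.mul_sum, h.eq]
          ring
        rw [Finset.sum_congr rfl fun b _ => e4 b, ← Finset.sum_mul, h.eq]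
        ring
      simp only [Finset.mul_sum] at e3 ⊢
      rw [Finset.sum_congr rfl fun b _ => Finset.sum_comm, Finset.sum_comm, Finset.sum_congr rfl fun g _ => e3 g,
        hS]
      simp only [Finset.mul_sum]
    have e6 : ∑ b : B, ∑ b' : B, (((lam b)⁻¹ : ℂˣ) : ℂ) * (((lam b')⁻¹ : ℂˣ) : ℂ) *
        ∑ g : G, φ (g * (b * x * b') * g⁻¹) =
        (Nat.card B : ℂ) * ((Nat.card G : ℂ) / χ 1 * ∑ b : B, (((lam b)⁻¹ : ℂˣ) : ℂ) * χ (b * x)) := by
      simp only [e1]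
      rw [Finset.sum_comm]
      have e7 : ∀ b' : B, ∑ b : B, (((lam b)⁻¹ : ℂˣ) : ℂ) * (((lam b')⁻¹ : ℂˣ) : ℂ) *
          ((Nat.card G : ℂ) / χ 1 * χ (b * x * b')) =
          (Nat.card G : ℂ) / χ 1 * ∑ b : B, (((lam b)⁻¹ : ℂˣ) : ℂ) * χ (b * x) := by
        intro b'
        rw [Finset.mul_sum]
        refine Fintype.sum_equiv (Equiv.mulLeft b') _ _ fun b => ?_
        rw [Equiv.coe_mulLeft, map_mul, mul_inv, Units.val_mul, Subgroup.coe_mul]
        have e8 : χ (b * x * b') = χ (b' * b * x) := by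
          rw [← hcl (b * x * b') b']
          congr 1
          group
        rw [e8]
        ring
      rw [Finset.sum_congr rfl fun b' _ => e7 b', Finset.sum_const, nsmul_eq_mul, Finset.card_univ,
        ← Nat.card_eq_fintype_card (α := B)]
    exact mul_left_cancel₀ hB (e2.symm.trans e6)
  -- the multiplicity
  have hm : ∑ b : B, (((lam b)⁻¹ : ℂˣ) : ℂ) * χ b = (Nat.card B : ℂ) * S * χ 1 / (Nat.card G : ℂ) := by
    have h1 := hD 1
    rw [h.one, one_mul] at h1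
    simp only [mul_one] at h1
    rw [eq_div_iff hG]
    have h2 : (Nat.card B : ℂ) * S * χ 1 = ((Nat.card G : ℂ) / χ 1 * ∑ b : B, (((lam b)⁻¹ : ℂˣ) : ℂ) * χ b) * χ 1 := by
      rw [← h1]
    rw [h2]
    field_simp
  have hE : S * S = ((Nat.card G : ℂ) / χ 1) ^ 2 := by
    -- `∑_g χ(g⁻¹) φ(g)` in two ways
    have e1 : ∑ b : B, (((lam b)⁻¹ : ℂˣ) : ℂ) * ∑ g : G, χ (b * g⁻¹) * φ g =
        (Nat.card B : ℂ) * ∑ g : G, φ g * χ g⁻¹ := by
      have e2 : ∀ b : B, (((lam b)⁻¹ : ℂˣ) : ℂ) * ∑ g : G, χ (b * g⁻¹) * φ g = ∑ g : G, φ g * χ g⁻¹ := by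
        intro b
        rw [Finset.mul_sum]
        refine Fintype.sum_equiv (Equiv.mulRight (b : G)⁻¹) _ _ fun g => ?_
        rw [Equiv.coe_mulRight]
        have e3 : φ (g * (b : G)⁻¹) = ((lam b)⁻¹ : ℂˣ) * φ g := by
          have := h.right b⁻¹ g
          rwa [Subgroup.coe_inv, map_inv] at this
        rw [e3, mul_inv_rev, inv_inv]
        ring
      rw [Finset.sum_congr rfl fun b _ => e2 b, Finset.sum_const, nsmul_eq_mul, Finset.card_univ,
        Nat.card_eq_fintype_card]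
    have e4 : ∑ b : B, (((lam b)⁻¹ : ℂˣ) : ℂ) * ∑ g : G, χ (b * g⁻¹) * φ g =
        ∑ g : G, φ g * ∑ b : B, (((lam b)⁻¹ : ℂˣ) : ℂ) * χ (b * g⁻¹) := by
      simp only [Finset.mul_sum]
      rw [Finset.sum_comm]
      exact Finset.sum_congr rfl fun g _ => Finset.sum_congr rfl fun b _ => by ring
    have e5 : ∀ g : G, ∑ b : B, (((lam b)⁻¹ : ℂˣ) : ℂ) * χ (b * g⁻¹) =
        (Nat.card B : ℂ) * S * χ 1 / (Nat.card G : ℂ) * φ g⁻¹ := by
      intro g
      have h1 := hD g⁻¹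
      have h2 : ((Nat.card B : ℂ) * (φ g⁻¹ * S)) * χ 1 =
          ((Nat.card G : ℂ) / χ 1 * ∑ b : B, (((lam b)⁻¹ : ℂˣ) : ℂ) * χ (b * g⁻¹)) * χ 1 := by rw [h1]
      have h3 : ((Nat.card G : ℂ) / χ 1 * ∑ b : B, (((lam b)⁻¹ : ℂˣ) : ℂ) * χ (b * g⁻¹)) * χ 1 =
          (∑ b : B, (((lam b)⁻¹ : ℂˣ) : ℂ) * χ (b * g⁻¹)) * (Nat.card G : ℂ) := by field_simp
      rw [h3] at h2
      rw [eq_div_iff hG |>.2 h2.symm]
      ring
    rw [e4, Finset.sum_congr rfl fun g _ => by rw [e5 g]] at e1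
    have e6 : ∑ g : G, φ g * ((Nat.card B : ℂ) * S * χ 1 / (Nat.card G : ℂ) * φ g⁻¹) =
        (Nat.card B : ℂ) * S * χ 1 / (Nat.card G : ℂ) * S := by
      have e60 : ∀ K : ℂ, ∑ g : G, φ g * (K * φ g⁻¹) = K * ∑ g : G, φ g * φ g⁻¹ := by
        intro K
        rw [Finset.mul_sum]
        exact Finset.sum_congr rfl fun g _ => by ring
      exact e60 _
    rw [e6, hA] at e1
    have e7 : S * S * (χ 1 / (Nat.card G : ℂ)) = (Nat.card G : ℂ) / χ 1 := by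
      apply mul_left_cancel₀ hB
      rw [← e1]
      ring
    have e8 : S * S = (Nat.card G : ℂ) / χ 1 * ((Nat.card G : ℂ) / χ 1) := by
      have e9 : S * S = S * S * (χ 1 / (Nat.card G : ℂ)) * ((Nat.card G : ℂ) / χ 1) := by field_simp
      rw [e9, e7]
    rw [e8, sq]
  -- the sign
  have hSS : S = (Nat.card G : ℂ) / χ 1 ∨ S = -((Nat.card G : ℂ) / χ 1) := by
    rw [← sq] at hE
    exact sq_eq_sq_iff_eq_or_eq_neg.1 hE
  have hnat : ∃ m : ℕ, ∑ b : B, (((lam b)⁻¹ : ℂˣ) : ℂ) * χ b = (Nat.card B : ℂ) * m := by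
    have hl : IsCharacter B (fun b : B => ((lam b : ℂˣ) : ℂ)) := Characters.Linear.isCharacter_hom lam
    obtain ⟨m, hm⟩ := classInner_isNat (isCharacter_comp B.subtype (isIrr_isCharacter hχ)) hl
    refine ⟨m, ?_⟩
    rw [← hm, classInner_def, mul_inv_cancel_left₀ hB]
    refine Finset.sum_congr rfl fun b _ => ?_
    have h1 := isCharacter_apply_inv hl b
    have h2 : conj ((lam b : ℂˣ) : ℂ) = (((lam b)⁻¹ : ℂˣ) : ℂ) := by
      rw [← h1, map_inv]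
    rw [mul_comm]
    congr 1
    exact h2.symm
  obtain ⟨m, hm'⟩ := hnat
  rcases hSS with hSS | hSS
  · refine ⟨χ, hχ, ?_, ?_⟩
    · rw [hSS]
      field_simp
    · rw [hm, hSS]
      field_simp
  · exfalso
    rw [hm', hSS] at hm
    have h1 : (m : ℂ) = -1 := by
      apply mul_left_cancel₀ hB
      rw [hm]
      field_simp
    have h2 : ((m : ℝ) : ℂ) = ((-1 : ℝ) : ℂ) := by push_cast; exact h1
    have h3 : (m : ℝ) = -1 := Complex.ofReal_injective h2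
    have h4 : (0 : ℝ) ≤ m := Nat.cast_nonneg m
    linarith

end Cfsg.Agent.H684.OQ
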