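import Cfsg.Agent.H684.OQ.HRepDef

/-!
# S4884, own odd characteristic: Whittaker vectors (helper684)

`eB lam` the idempotent of the inflation of `lam : T → ℂˣ` to `B`, `ε = av ψ` the idempotent of a character `ψ` of `U`
which is not trivial on the simple root groups.

* `eB_kill` : `eB lam * dl k * ε = 0` for `k` over `w ≠ w₀`;
* `eB_span` : `eB lam * a * ε` is a multiple of `wv lam n₀ = eB lam * dl n₀ * ε`;
* `wv_ne`   : `wv lam n₀ ≠ 0`;
* `ta_n_wv` : the eigenvalue of `ta n_i` at `wv ν n₀` if `n_i ν = ν`.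
-/

set_option autoImplicit false
set_option linter.unusedSectionVars false

open Cfsg

namespace Cfsg.Agent.H684.OQ

open CoxeterSystem Cfsg.Agent.ChevalleyStructure.CoxeterGeom Cfsg.Agent.Tits.Roots Cfsg.Agent.Tits.Core
  Cfsg.Agent.Tits.Exchange Cfsg.Agent.Nodes.Reps Cfsg.Agent.Nodes.BNOf Cfsg.Agent.Nodes.StabComb
  Cfsg.Agent.Nodes.Bruhat Cfsg.Agent.Nodes.OppDec Cfsg.Agent.Nodes.LeviDec

universe u

variable {I W : Type*} {Y : Type u} [Fintype I] [DecidableEq I] [Group W] [Finite W] [Group Y] [Finite Y]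
  {M : CoxeterMatrix I} {cs : CoxeterSystem M W} {A : I → I → ℤ} {h : IsCartan M A} {p : ℕ} {T : Subgroup Y}
  {n : I → Y} {X : (I → ℤ) → Subgroup Y} (R : RGD cs h p T n X)

include R

/-- the idempotent of the weight `lam` -/
noncomputable def eB (lam : ↥T →* ℂˣ) : Al Y := av (infl R lam)

theorem eB_mul_t (lam : ↥T →* ℂˣ) {t : Y} (ht : t ∈ T) :
    eB R lam * dl t = ((lam ⟨t, ht⟩ : ℂˣ) : ℂ) • eB R lam := by
  have := av_mul_dl (infl R lam) ⟨t, RGD.T_le_B ht⟩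
  rwa [infl_T R lam ht] at this

theorem t_mul_eB (lam : ↥T →* ℂˣ) {t : Y} (ht : t ∈ T) :
    dl t * eB R lam = ((lam ⟨t, ht⟩ : ℂˣ) : ℂ) • eB R lam := by
  have := dl_mul_av (infl R lam) ⟨t, RGD.T_le_B ht⟩
  rwa [infl_T R lam ht] at this

theorem eB_mul_u (lam : ↥T →* ℂˣ) {u : Y} (hu : u ∈ UU cs h X) : eB R lam * dl u = eB R lam := by
  have := av_mul_dl (infl R lam) ⟨u, RGD.U_le_B hu⟩
  rwa [infl_U R lam hu, Units.val_one, one_smul] at this

theorem u_mul_eB (lam : ↥T →* ℂˣ) {u : Y} (hu : u ∈ UU cs h X) : dl u * eB R lam = eB R lam := by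
  have := dl_mul_av (infl R lam) ⟨u, RGD.U_le_B hu⟩
  rwa [infl_U R lam hu, Units.val_one, one_smul] at this

theorem eU_mul_eB (lam : ↥T →* ℂˣ) : eU cs h X * eB R lam = eB R lam := by
  have := avgU_eq (cs := cs) (h := h) (X := X) (a := 1) (b := eB R lam) (c := eB R lam) fun u hu => by
    rw [one_mul, u_mul_eB R lam hu]
  rwa [one_mul] at this

theorem eB_mul_eU (lam : ↥T →* ℂˣ) : eB R lam * eU cs h X = eB R lam := by
  have := avgU_eq (cs := cs) (h := h) (X := X) (a := eB R lam) (b := 1) (c := eB R lam) fun u hu => by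
    rw [mul_one, eB_mul_u R lam hu]
  rwa [mul_one] at this

theorem eB_mul_eB (lam : ↥T →* ℂˣ) : eB R lam * eB R lam = eB R lam := av_mul_av _

/-- an element fixed by `eU` on which `T` acts with the weight `lam` -/
theorem eB_mul_eq (lam : ↥T →* ℂˣ) {a : Al Y} (h1 : eU cs h X * a = a)
    (h2 : ∀ t (ht : t ∈ T), dl t * a = ((lam ⟨t, ht⟩ : ℂˣ) : ℂ) • a) : eB R lam * a = a := by
  have hu : ∀ u ∈ UU cs h X, dl u * a = a := fun u hu => by
    rw [← h1, ← mul_assoc, dl_mul_eU hu]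
  have := avg_eq (infl R lam) (a := 1) (b := a) (c := a) fun b => by
    obtain ⟨t, ht, u, hu', e⟩ := R.mem_B.1 b.2
    have e1 : b = ⟨t, RGD.T_le_B ht⟩ * ⟨u, RGD.U_le_B hu'⟩ := Subtype.ext e
    rw [one_mul, e, dl_mul, mul_assoc, hu u hu', h2 t ht, e1, map_mul, infl_T R lam ht, infl_U R lam hu', mul_one,
      smul_smul, Units.inv_mul, one_smul]
  rwa [one_mul] at this

/-! ### the character of `U` -/

variable {psi : ↥(UU cs h X) →* ℂˣ}

/-- `ψ` is not trivial on the simple root groups -/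
def Nondeg (psi : ↥(UU cs h X) →* ℂˣ) : Prop :=
  ∀ i, ∃ (x : Y) (hx : x ∈ X (sr i)), psi ⟨x, X_le_U i hx⟩ ≠ 1

omit R in
theorem u_mul_av {u : Y} (hu : u ∈ UU cs h X) : dl u * av psi = ((psi ⟨u, hu⟩ : ℂˣ) : ℂ) • av psi :=
  dl_mul_av psi ⟨u, hu⟩

/-- **vanishing** -/
theorem eB_kill (hpsi : Nondeg psi) (lam : ↥T →* ℂˣ) {w : W} {k : Y} (hk : Rp cs R.nsys w k) (hw : w ≠ w0 cs) :
    eB R lam * dl k * av psi = 0 := by
  obtain ⟨i, hi⟩ : ∃ i, cs.length w < cs.length (w * cs.simple i) := by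
    by_contra hcon
    push Not at hcon
    apply hw
    by_contra hne
    have h2 : w⁻¹ * w0 cs ≠ 1 := fun h3 => hne (inv_mul_eq_one.1 h3)
    obtain ⟨i, hi⟩ := cs.exists_leftDescent_of_ne_one h2
    have h3 := cs.isLeftDescent_iff.1 hi
    have h4 := hcon i
    have h5 := length_mul_w0 cs (w * cs.simple i)⁻¹
    have h6 := length_mul_w0 cs w⁻¹
    have e1 : (w * cs.simple i)⁻¹ * w0 cs = cs.simple i * (w⁻¹ * w0 cs) := by
      rw [mul_inv_rev, cs.inv_simple, mul_assoc]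
    rw [e1, cs.length_inv] at h5
    rw [cs.length_inv] at h6
    omega
  obtain ⟨x, hx, hne⟩ := hpsi i
  have h1 : k * x * k⁻¹ ∈ UU cs h X := by
    refine RGD.le_Sup (S := RGD.Pos cs h) ⟨(isRoot_sr cs h i).act w, nonneg_of_lt cs h w i hi⟩ ?_
    exact R.conj_mem hk (isRoot_sr cs h i) hx
  have h2 : ((psi ⟨x, X_le_U i hx⟩ : ℂˣ) : ℂ) • (eB R lam * dl k * av psi) = eB R lam * dl k * av psi := by
    calc ((psi ⟨x, X_le_U i hx⟩ : ℂˣ) : ℂ) • (eB R lam * dl k * av psi)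
        = eB R lam * dl k * (dl x * av psi) := by rw [u_mul_av (X_le_U i hx), mul_smul_comm]
      _ = eB R lam * dl (k * x * k⁻¹) * dl k * av psi := by
          have e : dl (k * x * k⁻¹) * dl k = dl k * dl x := by
            rw [← dl_mul, ← dl_mul]; congr 1; group
          rw [mul_assoc (eB R lam) (dl (k * x * k⁻¹)), e]
          simp only [mul_assoc]
      _ = eB R lam * dl k * av psi := by rw [eB_mul_u R lam h1]
  have h3 : (((psi ⟨x, X_le_U i hx⟩ : ℂˣ) : ℂ) - 1) • (eB R lam * dl k * av psi) = 0 := by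
    rw [sub_smul, h2, one_smul, sub_self]
  rcases smul_eq_zero.1 h3 with h4 | h4
  · exact absurd (Units.val_eq_one.1 (sub_eq_zero.1 h4)) hne
  · exact h4

/-- the Whittaker vector -/
noncomputable def wv (psi : ↥(UU cs h X) →* ℂˣ) (lam : ↥T →* ℂˣ) (n₀ : Y) : Al Y := eB R lam * dl n₀ * av psi

theorem eB_span (hG : GG cs h T X = ⊤) (hpsi : Nondeg psi) (lam : ↥T →* ℂˣ) {n₀ : Y}
    (hn₀ : Rp cs R.nsys (w0 cs) n₀) (a : Al Y) : ∃ c : ℂ, eB R lam * a * av psi = c • wv R psi lam n₀ := by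
  induction a using al_induction with
  | hd y =>
    have hy : y ∈ GG cs h T X := by rw [hG]; exact Subgroup.mem_top y
    obtain ⟨w, b₁, hb₁, k, hk, b₂, hb₂, rfl⟩ := (mem_GG R).1 hy
    obtain ⟨t₁, ht₁, u₁, hu₁, rfl⟩ := R.mem_B.1 hb₁
    obtain ⟨t₂, ht₂, u₂, hu₂, rfl⟩ := R.mem_B.1 hb₂
    have hk' : Rp cs R.nsys w (k * t₂) := hk.mul_mem_right ht₂
    have e1 : eB R lam * dl (t₁ * u₁ * k * (t₂ * u₂)) * av psi =
        (((lam ⟨t₁, ht₁⟩ : ℂˣ) : ℂ) * ((psi ⟨u₂, hu₂⟩ : ℂˣ) : ℂ)) • (eB R lam * dl (k * t₂) * av psi) := by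
      have e2 : dl (t₁ * u₁ * k * (t₂ * u₂)) = dl t₁ * (dl u₁ * (dl (k * t₂) * dl u₂)) := by
        rw [← dl_mul, ← dl_mul, ← dl_mul]; congr 1; group
      rw [e2]
      calc eB R lam * (dl t₁ * (dl u₁ * (dl (k * t₂) * dl u₂))) * av psi
          = (eB R lam * dl t₁) * dl u₁ * dl (k * t₂) * (dl u₂ * av psi) := by simp only [mul_assoc]
        _ = _ := by
            rw [eB_mul_t R lam ht₁, u_mul_av hu₂, mul_smul_comm, smul_mul_assoc, smul_mul_assoc, smul_mul_assoc,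
              eB_mul_u R lam hu₁, smul_smul, mul_comm]
    rw [e1]
    by_cases hw : w = w0 cs
    · subst hw
      have h1 : (k * t₂) * n₀⁻¹ ∈ T := by
        have h2 := (hn₀.inv.mul hk')
        rw [inv_mul_cancel] at h2
        have h3 := h2.mem_of_one
        have h4 := (Subgroup.mem_normalizer_iff.1 hn₀.mem_normalizer (n₀⁻¹ * (k * t₂))).1 h3
        have e : n₀ * (n₀⁻¹ * (k * t₂)) * n₀⁻¹ = (k * t₂) * n₀⁻¹ := by group
        rwa [e] at h4
      have e : dl (k * t₂) = dl ((k * t₂) * n₀⁻¹) * dl n₀ := by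
        rw [← dl_mul]; congr 1; group
      refine ⟨((lam ⟨t₁, ht₁⟩ : ℂˣ) : ℂ) * ((psi ⟨u₂, hu₂⟩ : ℂˣ) : ℂ) * ((lam ⟨_, h1⟩ : ℂˣ) : ℂ), ?_⟩
      rw [e, ← mul_assoc (eB R lam), eB_mul_t R lam h1, smul_mul_assoc, smul_mul_assoc, smul_smul]
      rfl
    · refine ⟨0, ?_⟩
      rw [eB_kill R hpsi lam hk' hw, smul_zero, zero_smul]
  | ha a b ha hb =>
    obtain ⟨c, hc⟩ := ha
    obtain ⟨d, hd⟩ := hb
    refine ⟨c + d, ?_⟩
    rw [mul_add, add_mul, hc, hd, add_smul]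
  | hs c a ha =>
    obtain ⟨d, hd⟩ := ha
    refine ⟨c * d, ?_⟩
    rw [mul_smul_comm, smul_mul_assoc, hd, smul_smul]

theorem wv_ne (psi : ↥(UU cs h X) →* ℂˣ) (lam : ↥T →* ℂˣ) {n₀ : Y} (hn₀ : Rp cs R.nsys (w0 cs) n₀) :
    wv R psi lam n₀ ≠ 0 := by
  classical
  intro h0
  have := Fintype.ofFinite ↥(UU cs h X)
  have := Fintype.ofFinite ↥(RGD.B cs h T X)
  have h1 : lin (fun y : Y => if y = n₀ then (1 : ℂ) else 0) (wv R psi lam n₀ * 1) = 0 := by
    rw [h0, zero_mul, map_zero]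
  unfold wv at h1
  rw [lin_av] at h1
  have hu : ∀ (b : ↥(RGD.B cs h T X)) (u : ↥(UU cs h X)), (b : Y) * n₀ * u = n₀ ↔ b = 1 ∧ u = 1 := by
    intro b u
    constructor
    · intro e
      have h2 : n₀ * u * n₀⁻¹ = (b : Y)⁻¹ := by
        rw [eq_inv_iff_mul_eq_one]
        calc n₀ * u * n₀⁻¹ * b = (b : Y)⁻¹ * ((b : Y) * n₀ * u) * n₀⁻¹ * b := by group
          _ = 1 := by rw [e]; group
      have h3 : n₀ * u * n₀⁻¹ ∈ UN cs h X := by
        rw [← cj_U R hn₀]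
        exact conj_mem_cj.2 u.2
      have h4 : n₀ * u * n₀⁻¹ = 1 := eq_one_of_mem_UN_of_mem_B R h3 (by rw [h2]; exact inv_mem b.2)
      rw [h4] at h2
      refine ⟨Subtype.ext (inv_eq_one.1 h2.symm), Subtype.ext ?_⟩
      have : (u : Y) = n₀⁻¹ * (n₀ * u * n₀⁻¹) * n₀ := by group
      rw [this, h4]
      simp
    · rintro ⟨rfl, rfl⟩
      simp
  have h2 : ∀ u : ↥(UU cs h X), lin (fun y : Y => if y = n₀ then (1 : ℂ) else 0) (eB R lam * dl n₀ * dl (u : Y) * 1) =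
      if u = 1 then (Nat.card ↥(RGD.B cs h T X) : ℂ)⁻¹ else 0 := by
    intro u
    have e1 : eB R lam * dl n₀ * dl (u : Y) * 1 = 1 * av (infl R lam) * (dl n₀ * dl (u : Y)) := by
      rw [one_mul, mul_one, mul_assoc]
      rfl
    rw [e1, lin_av]
    have e2 : ∀ b : ↥(RGD.B cs h T X), lin (fun y : Y => if y = n₀ then (1 : ℂ) else 0)
        (1 * dl (b : Y) * (dl n₀ * dl (u : Y))) = if b = 1 ∧ u = 1 then 1 else 0 := by
      intro b
      rw [one_mul, ← dl_mul, ← dl_mul, lin_dl, ← mul_assoc]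
      exact if_congr (hu b u) rfl rfl
    simp only [e2]
    by_cases hu1 : u = 1
    · simp only [hu1, and_true, if_true]
      rw [Finset.sum_eq_single 1]
      · simp
      · intro b _ hb
        rw [if_neg hb, smul_zero]
      · intro hb
        exact absurd (Finset.mem_univ _) hb
    · simp [hu1]
  simp only [h2] at h1
  rw [Finset.sum_eq_single 1] at h1
  · simp only [if_true, map_one, inv_one, Units.val_one, smul_eq_mul, mul_eq_zero] at h1
    rcases h1 with h1 | h1 | h1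
    · exact inv_ne_zero (card_ne _) h1
    · exact one_ne_zero h1
    · exact inv_ne_zero (card_ne _) h1
  · intro b _ hb
    rw [if_neg hb, smul_zero]
  · intro hb
    exact absurd (Finset.mem_univ _) hb

/-! ### the eigenvalue of `n_i` -/

theorem eU_mul_wv (lam : ↥T →* ℂˣ) (n₀ : Y) : eU cs h X * wv R psi lam n₀ = wv R psi lam n₀ := by
  unfold wv
  rw [← mul_assoc, ← mul_assoc, eU_mul_eB]

theorem wv_mul_av (lam : ↥T →* ℂˣ) (n₀ : Y) : wv R psi lam n₀ * av psi = wv R psi lam n₀ := by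
  unfold wv
  rw [mul_assoc, av_mul_av]

theorem t_mul_wv (lam : ↥T →* ℂˣ) (n₀ : Y) {t : Y} (ht : t ∈ T) :
    dl t * wv R psi lam n₀ = ((lam ⟨t, ht⟩ : ℂˣ) : ℂ) • wv R psi lam n₀ := by
  unfold wv
  rw [← mul_assoc, ← mul_assoc, t_mul_eB R lam ht, smul_mul_assoc, smul_mul_assoc]

open scoped Classical in
/-- a choice of `b` in `n_i x n_i⁻¹ = a t_i(x) n_i b` -/
noncomputable def bx (i : I) (x : Y) : Y :=
  if hx : x ∈ X (sr i) ∧ x ≠ 1 then (tx_spec R hx.1 hx.2).2.choose_spec.2.choose else 1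

theorem bx_spec {i : I} {x : Y} (hx : x ∈ X (sr i)) (hx1 : x ≠ 1) :
    bx R i x ∈ X (sr i) ∧ ∃ a ∈ X (sr i), n i * x * (n i)⁻¹ = a * tx R i x * n i * bx R i x := by
  unfold bx
  rw [dif_pos ⟨hx, hx1⟩]
  exact ⟨(tx_spec R hx hx1).2.choose_spec.2.choose_spec.1, (tx_spec R hx hx1).2.choose,
    (tx_spec R hx hx1).2.choose_spec.1, (tx_spec R hx hx1).2.choose_spec.2.choose_spec.2⟩

/-- `(s_i w₀)⁻¹ α_i ≥ 0` -/
theorem rep_inv_nonneg (i : I) : 0 ≤ rep cs h (cs.simple i * w0 cs)⁻¹ (sr i) := by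
  rw [mul_inv_rev, cs.inv_simple, w0_inv, rep_mul_apply, rep_simple_sr]
  exact rep_w0_nonneg (isRoot_sr cs h i).neg (neg_nonpos.2 (sr_nonneg i))

/-- `(s_i w₀)⁻¹ α_i = α_j` -/
theorem rep_inv_eq (i : I) : rep cs h (cs.simple i * w0 cs)⁻¹ (sr i) = sr (op cs i) := by
  have hroot : IsRoot cs h (rep cs h (cs.simple i * w0 cs)⁻¹ (sr i)) := (isRoot_sr cs h i).act _
  by_contra hne
  have h1 := hroot.simple_nonneg (rep_inv_nonneg R i) (op cs i) hne
  have e : cs.simple (op cs i) * (cs.simple i * w0 cs)⁻¹ = w0 cs := by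
    rw [mul_inv_rev, cs.inv_simple, w0_inv, simple_op, mul_assoc]
    have : w0 cs * (w0 cs * cs.simple i) = cs.simple i := by rw [← mul_assoc, w0_mul_self, one_mul]
    rw [this, mul_assoc, cs.simple_mul_simple_self, mul_one]
  rw [← rep_mul_apply, e] at h1
  exact ((isRoot_sr cs h i).act (w0 cs)).not_pos_neg h1 (rep_w0_nonpos (isRoot_sr cs h i) (sr_nonneg i))

theorem conj_mem_UU {i : I} {n₀ : Y} (hn₀ : Rp cs R.nsys (w0 cs) n₀) {b : Y} (hb : b ∈ X (sr i)) :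
    (n i * n₀)⁻¹ * b * (n i * n₀) ∈ UU cs h X :=
  RGD.le_Sup (S := RGD.Pos cs h) ⟨(isRoot_sr cs h i).act _, rep_inv_nonneg R i⟩
    (R.conj_mem' ((rp_simple cs R.nsys i).mul hn₀) (isRoot_sr cs h i) hb)

/-- the character `b ↦ ψ(n₀⁻¹ n_i⁻¹ b n_i n₀)` of `X_i` -/
noncomputable def psiX (psi : ↥(UU cs h X) →* ℂˣ) {n₀ : Y} (hn₀ : Rp cs R.nsys (w0 cs) n₀) (i : I) :
    ↥(X (sr i)) →* ℂˣ :=
  psi.comp
    { toFun := fun b => ⟨(n i * n₀)⁻¹ * b * (n i * n₀), conj_mem_UU R hn₀ b.2⟩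
      map_one' := Subtype.ext (by simp)
      map_mul' := fun a b => Subtype.ext (by simp only [Subgroup.coe_mul]; group) }

theorem psiX_apply {n₀ : Y} (hn₀ : Rp cs R.nsys (w0 cs) n₀) (i : I) (b : ↥(X (sr i))) :
    psiX R psi hn₀ i b = psi ⟨(n i * n₀)⁻¹ * b * (n i * n₀), conj_mem_UU R hn₀ b.2⟩ := rfl

theorem psiX_ne (hpsi : Nondeg psi) {n₀ : Y} (hn₀ : Rp cs R.nsys (w0 cs) n₀) (i : I) : psiX R psi hn₀ i ≠ 1 := by
  intro h0
  obtain ⟨x, hx, hne⟩ := hpsi (op cs i)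
  apply hne
  have h1 : (n i * n₀) * x * (n i * n₀)⁻¹ ∈ X (sr i) := by
    have h2 := R.conj_mem ((rp_simple cs R.nsys i).mul hn₀) (isRoot_sr cs h (op cs i)) hx
    have e : rep cs h (cs.simple i * w0 cs) (sr (op cs i)) = sr i := by
      rw [← rep_inv_eq R i, rep_apply_inv]
    rwa [e] at h2
  have h3 := congrArg (fun f => f ⟨_, h1⟩) h0
  simp only [MonoidHom.one_apply] at h3
  rw [psiX_apply] at h3
  rw [← h3]
  congr 1
  apply Subtype.ext
  simp only
  group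

/-- the scalar of `n_i` at the Whittaker vector -/
noncomputable def alf (psi : ↥(UU cs h X) →* ℂˣ) {n₀ : Y} (hn₀ : Rp cs R.nsys (w0 cs) n₀) (i : I)
    (nu : ↥T →* ℂˣ) : ℂ := by
  classical
  exact letI := Fintype.ofFinite ↥(X (sr i))
    (Nat.card (X (sr i)) : ℂ)⁻¹ * ((nu ⟨n i * n i, R.sq_mem_T i⟩ : ℂˣ) : ℂ) *
      ∑ x : X (sr i), if hx : (x : Y) ≠ 1 then ((nu ⟨tx R i x, tx_mem R i x⟩ : ℂˣ) : ℂ) *
        ((psiX R psi hn₀ i ⟨bx R i x, (bx_spec R x.2 hx).1⟩ : ℂˣ) : ℂ) else 0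

/-- **the eigenvalue** -/
theorem ta_n_wv (hpsi : Nondeg psi) {n₀ : Y} (hn₀ : Rp cs R.nsys (w0 cs) n₀) (i : I) (nu : ↥T →* ℂˣ)
    (hnu : ∀ t (ht : t ∈ T) (ht' : n i * t * (n i)⁻¹ ∈ T), nu ⟨n i * t * (n i)⁻¹, ht'⟩ = nu ⟨t, ht⟩) :
    ta cs h X (n i) * wv R psi nu n₀ = alf R psi hn₀ i nu • wv R psi nu n₀ := by
  classical
  have := Fintype.ofFinite ↥(X (sr i))
  have hni := rp_simple cs R.nsys i
  -- the weight of `n_i wv`
  have h1 : eB R nu * (ta cs h X (n i) * wv R psi nu n₀) = ta cs h X (n i) * wv R psi nu n₀ := by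
    refine eB_mul_eq R nu ?_ ?_
    · rw [← mul_assoc, eU_mul_ta]
    · intro t ht
      have ht' : (n i)⁻¹ * t * n i ∈ T := by
        have := (Subgroup.mem_normalizer_iff.1 (inv_mem hni.mem_normalizer) t).1 ht
        rwa [inv_inv] at this
      have e1 : dl t * ta cs h X (n i) = ta cs h X (n i) * dl ((n i)⁻¹ * t * n i) := by
        unfold ta
        calc dl t * (eU cs h X * dl (n i) * eU cs h X)
            = (dl t * eU cs h X) * dl (n i) * eU cs h X := by simp only [mul_assoc]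
          _ = eU cs h X * (dl t * dl (n i)) * eU cs h X := by rw [dl_t_comm_eU R ht]; simp only [mul_assoc]
          _ = eU cs h X * (dl (n i) * dl ((n i)⁻¹ * t * n i)) * eU cs h X := by
              rw [← dl_mul, ← dl_mul]; congr 3; group
          _ = eU cs h X * dl (n i) * (dl ((n i)⁻¹ * t * n i) * eU cs h X) := by simp only [mul_assoc]
          _ = _ := by rw [dl_t_comm_eU R ht']; simp only [mul_assoc]
      rw [← mul_assoc, e1, mul_assoc, t_mul_wv R nu n₀ ht', mul_smul_comm]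
      congr 2
      have e2 : n i * ((n i)⁻¹ * t * n i) * (n i)⁻¹ = t := by group
      have h3 := hnu _ ht' (by rw [e2]; exact ht)
      rw [← h3]
      congr 2
  rw [← h1]
  -- `e_B n_i v = e_B n_i e_X n₀ ε`
  have h2 : eB R nu * (ta cs h X (n i) * wv R psi nu n₀) = eB R nu * dl (n i) * wv R psi nu n₀ := by
    unfold ta
    calc eB R nu * (eU cs h X * dl (n i) * eU cs h X * wv R psi nu n₀)
        = (eB R nu * eU cs h X) * dl (n i) * (eU cs h X * wv R psi nu n₀) := by simp only [mul_assoc]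
      _ = _ := by rw [eB_mul_eU, eU_mul_wv]
  have h3 : eB R nu * dl (n i) * wv R psi nu n₀ = eB R nu * dl (n i) * eX X i * (dl n₀ * av psi) := by
    have e1 : wv R psi nu n₀ = eB R nu * (eX X i * (dl n₀ * av psi)) := by
      unfold wv
      rw [← mul_assoc, ← eB_mul_eU R nu, mul_assoc (eB R nu) (eU cs h X) (eX X i), eU_mul_eX, eB_mul_eU]
      simp only [mul_assoc]
    rw [e1]
    have e2 := avg_eq (infl R nu) (a := eB R nu * dl (n i)) (b := eX X i * (dl n₀ * av psi))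
      (c := eB R nu * dl (n i) * eX X i * (dl n₀ * av psi)) ?_
    · rw [← mul_assoc (eB R nu * dl (n i))]
      exact e2
    · intro b
      obtain ⟨t, ht, u, hu, e⟩ := R.mem_B.1 b.2
      obtain ⟨v, hv, x, hx, rfl⟩ := exists_vx R i hu
      have ht' : n i * t * (n i)⁻¹ ∈ T := (Subgroup.mem_normalizer_iff.1 hni.mem_normalizer t).1 ht
      have hv' : n i * v * (n i)⁻¹ ∈ UU cs h X := V_le_U i (n_conj_V R i hv)
      have hb : infl R nu b = nu ⟨t, ht⟩ := by
        have e1 : b = ⟨t, RGD.T_le_B ht⟩ * ⟨v * x, RGD.U_le_B hu⟩ := Subtype.ext e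
        rw [e1, map_mul, infl_T R nu ht, infl_U R nu hu, mul_one]
      have e3 : dl (n i) * dl (b : Y) = dl (n i * t * (n i)⁻¹) * (dl (n i * v * (n i)⁻¹) * (dl (n i) * dl x)) := by
        rw [e, ← dl_mul, ← dl_mul, ← dl_mul, ← dl_mul]; congr 1; group
      have e4 : dl x * eX X i = eX X i := by
        have := dl_mul_av (1 : X (sr i) →* ℂˣ) ⟨x, hx⟩
        rwa [MonoidHom.one_apply, Units.val_one, one_smul] at this
      calc (((infl R nu b)⁻¹ : ℂˣ) : ℂ) • (eB R nu * dl (n i) * dl (b : Y) * (eX X i * (dl n₀ * av psi)))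
          = (((infl R nu b)⁻¹ : ℂˣ) : ℂ) • (eB R nu * dl (n i * t * (n i)⁻¹) * dl (n i * v * (n i)⁻¹) *
              dl (n i) * (dl x * eX X i) * (dl n₀ * av psi)) := by
            rw [mul_assoc (eB R nu) (dl (n i)), e3]; simp only [mul_assoc]
        _ = _ := by
            rw [eB_mul_t R nu ht', smul_mul_assoc, eB_mul_u R nu hv', e4, hb, smul_mul_assoc, smul_mul_assoc,
              smul_mul_assoc, smul_smul, hnu t ht ht', Units.inv_mul, one_smul]
  rw [h2, h3]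
  unfold eX
  rw [av_def, mul_smul_comm, smul_mul_assoc, Finset.mul_sum, Finset.sum_mul]
  have h4 : ∀ x : X (sr i), eB R nu * dl (n i) * (((((1 : X (sr i) →* ℂˣ) x)⁻¹ : ℂˣ) : ℂ) • dl (x : Y)) *
      (dl n₀ * av psi) = (((nu ⟨n i * n i, R.sq_mem_T i⟩ : ℂˣ) : ℂ) *
        (if hx : (x : Y) ≠ 1 then ((nu ⟨tx R i x, tx_mem R i x⟩ : ℂˣ) : ℂ) *
          ((psiX R psi hn₀ i ⟨bx R i x, (bx_spec R x.2 hx).1⟩ : ℂˣ) : ℂ) else 0)) • wv R psi nu n₀ := by
    intro x
    rw [MonoidHom.one_apply, inv_one, Units.val_one, one_smul]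
    split_ifs with hx
    · obtain ⟨hb, a, ha, e⟩ := bx_spec R x.2 hx
      set b := bx R i x with hbdef
      set t := tx R i x with htdef
      have ht : t ∈ T := tx_mem R i x
      have hu' := conj_mem_UU R hn₀ hb
      have e1 : dl (n i) * dl (x : Y) * dl n₀ = dl a * (dl t * (dl (n i * n i) * (dl n₀ *
          dl ((n i * n₀)⁻¹ * b * (n i * n₀))))) := by
        rw [← dl_mul, ← dl_mul, ← dl_mul, ← dl_mul, ← dl_mul, ← dl_mul]
        congr 1
        calc n i * x * n₀ = (n i * x * (n i)⁻¹) * n i * n₀ := by group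
          _ = _ := by rw [e]; group
      have haU : a ∈ UU cs h X := X_le_U i ha
      calc eB R nu * dl (n i) * dl (x : Y) * (dl n₀ * av psi)
          = eB R nu * (dl (n i) * dl (x : Y) * dl n₀) * av psi := by simp only [mul_assoc]
        _ = eB R nu * dl a * dl t * dl (n i * n i) * dl n₀ * (dl ((n i * n₀)⁻¹ * b * (n i * n₀)) * av psi) := by
            rw [e1]; simp only [mul_assoc]
        _ = _ := by
            rw [eB_mul_u R nu haU, eB_mul_t R nu ht, smul_mul_assoc, eB_mul_t R nu (R.sq_mem_T i), u_mul_av hu']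
            simp only [smul_mul_assoc, mul_smul_comm, smul_smul]
            rw [psiX_apply]
            congr 1
            ring
    · have hx1 : (x : Y) = 1 := not_not.1 hx
      rw [hx1, dl_one, mul_one, mul_zero, zero_smul]
      have e1 : eB R nu * dl (n i) * (dl n₀ * av psi) = eB R nu * dl (n i * n₀) * av psi := by
        rw [dl_mul]; simp only [mul_assoc]
      rw [e1]
      refine eB_kill R hpsi nu (hni.mul hn₀) ?_
      intro h5
      have h6 : cs.simple i = 1 := by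
        have := mul_eq_right.1 h5
        exact this
      have h7 := cs.length_simple i
      rw [h6, cs.length_one] at h7
      exact absurd h7 (by norm_num)
  rw [Finset.sum_congr rfl fun x _ => h4 x, ← Finset.sum_smul, smul_smul, ← Finset.mul_sum]
  congr 1
  unfold alf
  rw [mul_assoc]
  congr!

end Cfsg.Agent.H684.OQ
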