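import Cfsg.Agent.H684.OQ.Defs

/-!
# S4884, own odd characteristic: the input with nodes of type `SU_3` (helper684)

`SUNode T n X i` : the node `i` is of type `SU_3(Q)`; `InB`, `HasInB` : as `In`, `HasIn`, every node `SL_2` or `SU_3`.
-/

set_option autoImplicit false

namespace Cfsg.Agent.H684.OQ

open CoxeterSystem Cfsg.Agent.ChevalleyStructure.CoxeterGeom Cfsg.Agent.Tits.Roots Cfsg.Agent.Nodes.Reps
  Cfsg.Agent.Nodes.BNOf Cfsg.Agent.Nodes.Bruhat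

universe u

variable {I W : Type*} {Y : Type u} [Fintype I] [DecidableEq I] [Group W] [Group Y] {M : CoxeterMatrix I}

/-- the node `i` is of type `SU_3(Q)`: `|X_i| = Q³`, `Z` the centre of order `Q`, contained in the commutator subgroup,
`n_i x n_i⁻¹ = a t(x) n_i b(x)`, `b(x) ∈ Z` iff `x ∈ Z`, and for a character `ν = n_i ν` of order `2` of `T`: `ν(t(x)) = 1`
for all `x`, or `ν(t(z)) = ε` on `Z - 1` and `∑ ν(t(x)) = -ε Q (Q - 1)` -/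
def SUNode (T : Subgroup Y) (n : I → Y) (X : (I → ℤ) → Subgroup Y) (i : I) : Prop :=
  ∃ (Q : ℕ) (Z : Subgroup Y) (t b : Y → Y), 1 < Q ∧ Z ≤ X (sr i) ∧ Nat.card Z = Q ∧ Nat.card (X (sr i)) = Q ^ 3 ∧
    (∀ f : ↥(X (sr i)) →* ℂˣ, ∀ z : ↥(X (sr i)), (z : Y) ∈ Z → f z = 1) ∧
    (∀ x ∈ X (sr i), ∀ y ∈ X (sr i), x * y * x⁻¹ * y⁻¹ ∈ Z) ∧
    (∀ x ∈ X (sr i), x ≠ 1 → t x ∈ T ∧ b x ∈ X (sr i) ∧
      ∃ a ∈ X (sr i), n i * x * (n i)⁻¹ = a * t x * n i * b x) ∧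
    (∀ x ∈ X (sr i), x ≠ 1 → (b x ∈ Z ↔ x ∈ Z)) ∧
    ∀ nu : ↥T →* ℂˣ, (∀ s, nu s * nu s = 1) →
      (∀ s (hs : s ∈ T) (hs' : n i * s * (n i)⁻¹ ∈ T), nu ⟨n i * s * (n i)⁻¹, hs'⟩ = nu ⟨s, hs⟩) →
      (∀ x ∈ X (sr i), x ≠ 1 → ∀ hx : t x ∈ T, nu ⟨t x, hx⟩ = 1) ∨
      ((∀ hn : n i * n i ∈ T, nu ⟨n i * n i, hn⟩ = 1) ∧ ∃ e : ℂ, e * e = 1 ∧
        (∀ z ∈ Z, z ≠ 1 → ∀ hz : t z ∈ T, ((nu ⟨t z, hz⟩ : ℂˣ) : ℂ) = e) ∧
        ∀ [Fintype ↥(X (sr i))] (F : Y → ℂ), (∀ x ∈ X (sr i), x ≠ 1 → ∀ hx : t x ∈ T, F x = ((nu ⟨t x, hx⟩ : ℂˣ) : ℂ)) →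
          F 1 = 0 → ∑ x : ↥(X (sr i)), F (x : Y) = - e * Q * (Q - 1))

/-- **the input** -/
structure InB (p : ℕ) (cs : CoxeterSystem M W) {A : I → I → ℤ} (h : IsCartan M A) (T : Subgroup Y) (n : I → Y)
    (X : (I → ℤ) → Subgroup Y) : Prop where
  rgd : RGD cs h p T n X
  top : GG cs h T X = ⊤
  comm : ∀ a ∈ T, ∀ b ∈ T, a * b = b * a
  nofix : H69.OQ.NoFix cs h T X
  node : ∀ i, SLNode T n X i ∨ SUNode T n X i
  faith : TWFaithful cs T n rgd.nsys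

theorem In.inB {p : ℕ} {cs : CoxeterSystem M W} {A : I → I → ℤ} {h : IsCartan M A} {T : Subgroup Y} {n : I → Y}
    {X : (I → ℤ) → Subgroup Y} (hI : In p cs h T n X) : InB p cs h T n X :=
  ⟨hI.rgd, hI.top, hI.comm, hI.nofix, fun i => Or.inl (hI.node i), hI.faith⟩

/-- the group `G` has an input of the type `M` -/
def HasInB (p : ℕ) (M : CoxeterMatrix I) (G : Type u) [Group G] : Prop :=
  ∃ (A : I → I → ℤ) (h : IsCartan M A) (T : Subgroup G) (n : I → G) (X : (I → ℤ) → Subgroup G),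
    Finite M.Group ∧ InB p M.toCoxeterSystem h T n X

theorem HasIn.hasInB {p : ℕ} {G : Type u} [Group G] (hI : HasIn p M G) : HasInB p M G := by
  obtain ⟨A, h, T, n, X, hf, hI⟩ := hI
  exact ⟨A, h, T, n, X, hf, hI.inB⟩

end Cfsg.Agent.H684.OQ
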