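import Cfsg.Agent.H684.OQ.Wt
import Cfsg.Agent.H684.OQ.DefsB

/-!
# S4884, own odd characteristic: the eigenvalue at a node of type `SL_2` (helper684)
-/

set_option autoImplicit false
set_option linter.unusedSectionVars false

open Cfsg

namespace Cfsg.Agent.H684.OQ

open CoxeterSystem Cfsg.Agent.ChevalleyStructure.CoxeterGeom Cfsg.Agent.Tits.Roots Cfsg.Agent.Tits.Core
  Cfsg.Agent.Tits.Exchange Cfsg.Agent.Nodes.Reps Cfsg.Agent.Nodes.BNOf Cfsg.Agent.Nodes.StabComb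
  Cfsg.Agent.Nodes.Bruhat Cfsg.Agent.Nodes.OppDec Cfsg.Agent.Nodes.LeviDec

universe u v

variable {I W : Type*} {Y : Type u} [Fintype I] [DecidableEq I] [Group W] [Finite W] [Group Y] [Finite Y]
  {M : CoxeterMatrix I} {cs : CoxeterSystem M W} {A : I → I → ℤ} {h : IsCartan M A} {p : ℕ} {T : Subgroup Y}
  {n : I → Y} {X : (I → ℤ) → Subgroup Y} (R : RGD cs h p T n X)

include R

/-- the decomposition is unique -/
theorem dec_unique {i : I} {t t' a a' b b' : Y} (ht : t ∈ T) (ht' : t' ∈ T) (ha : a ∈ X (sr i)) (ha' : a' ∈ X (sr i))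
    (hb : b ∈ X (sr i)) (hb' : b' ∈ X (sr i)) (e : a * t * n i * b = a' * t' * n i * b') :
    t = t' ∧ b = b' ∧ a = a' := by
  have e1 : n i * (b * b'⁻¹) * (n i)⁻¹ = (a * t)⁻¹ * (a' * t') := by
    have : n i * (b * b'⁻¹) * (n i)⁻¹ = (a * t)⁻¹ * (a * t * n i * b) * b'⁻¹ * (n i)⁻¹ := by group
    rw [this, e]
    group
  have haB := RGD.X_le_B (T := T) (isRoot_sr cs h i) (sr_nonneg i) ha
  have haB' := RGD.X_le_B (T := T) (isRoot_sr cs h i) (sr_nonneg i) ha'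
  have htB := RGD.T_le_B (cs := cs) (h := h) (X := X) ht
  have htB' := RGD.T_le_B (cs := cs) (h := h) (X := X) ht'
  have h1 : b * b'⁻¹ = 1 := eq_one_of_conj_mem_B R (mul_mem hb (inv_mem hb')) (rp_simple cs R.nsys i)
    (by rw [e1]; exact mul_mem (inv_mem (mul_mem haB htB)) (mul_mem haB' htB'))
  have h2 : b = b' := mul_inv_eq_one.1 h1
  rw [h1, mul_one, mul_inv_cancel] at e1
  have h3 : a * t = a' * t' := inv_mul_eq_one.1 e1.symm
  have h4 : a'⁻¹ * a = t' * t⁻¹ := by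
    have : a'⁻¹ * a = a'⁻¹ * (a * t) * t⁻¹ := by group
    rw [this, h3]
    group
  have h5 : a'⁻¹ * a ∈ X (sr i) ⊓ T := Subgroup.mem_inf.2 ⟨mul_mem (inv_mem ha') ha,
    by rw [h4]; exact mul_mem ht' (inv_mem ht)⟩
  rw [X_inf_T R (isRoot_sr cs h i), Subgroup.mem_bot] at h5
  rw [h5] at h4
  exact ⟨(mul_inv_eq_one.1 h4.symm).symm, h2, (inv_mul_eq_one.1 h5).symm⟩

theorem tx_unique {i : I} {x t a b : Y} (hx : x ∈ X (sr i)) (hx1 : x ≠ 1) (ht : t ∈ T) (ha : a ∈ X (sr i))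
    (hb : b ∈ X (sr i)) (e : n i * x * (n i)⁻¹ = a * t * n i * b) : tx R i x = t ∧ bx R i x = b := by
  obtain ⟨hb', a', ha', e'⟩ := bx_spec R hx hx1
  have h1 := dec_unique R (tx_mem R i x) ht ha' ha hb' hb (by rw [← e', ← e])
  exact ⟨h1.1, h1.2.1⟩

theorem bx_injective {i : I} {x x' : Y} (hx : x ∈ X (sr i)) (hx1 : x ≠ 1) (hx' : x' ∈ X (sr i)) (hx1' : x' ≠ 1)
    (e : bx R i x = bx R i x') : x = x' := by
  obtain ⟨hb, a, ha, e1⟩ := bx_spec R hx hx1
  obtain ⟨hb', a', ha', e1'⟩ := bx_spec R hx' hx1'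
  have e2 : n i * (x * x'⁻¹) * (n i)⁻¹ = (a * tx R i x) * (a' * tx R i x')⁻¹ := by
    have : n i * (x * x'⁻¹) * (n i)⁻¹ = (n i * x * (n i)⁻¹) * (n i * x' * (n i)⁻¹)⁻¹ := by group
    rw [this, e1, e1', e]
    group
  have haB := RGD.X_le_B (T := T) (isRoot_sr cs h i) (sr_nonneg i) ha
  have haB' := RGD.X_le_B (T := T) (isRoot_sr cs h i) (sr_nonneg i) ha'
  have htB := RGD.T_le_B (cs := cs) (h := h) (X := X) (tx_mem R i x)
  have htB' := RGD.T_le_B (cs := cs) (h := h) (X := X) (tx_mem R i x')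
  have h1 : x * x'⁻¹ = 1 := eq_one_of_conj_mem_B R (mul_mem hx (inv_mem hx')) (rp_simple cs R.nsys i)
    (by rw [e2]; exact mul_mem (mul_mem haB htB) (inv_mem (mul_mem haB' htB')))
  exact mul_inv_eq_one.1 h1

theorem n_not_mem_B (i : I) : n i ∉ RGD.B cs h T X := by
  intro h1
  have h2 := R.eq_one_of_mem_B (rp_simple cs R.nsys i) h1
  have h3 := cs.length_simple i
  rw [h2, cs.length_one] at h3
  exact absurd h3 (by norm_num)

theorem bx_ne {i : I} {x : Y} (hx : x ∈ X (sr i)) (hx1 : x ≠ 1) : bx R i x ≠ 1 := by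
  intro hb1
  obtain ⟨hb, a, ha, e1⟩ := bx_spec R hx hx1
  rw [hb1, mul_one] at e1
  apply n_not_mem_B R i
  have e2 : n i = a * tx R i x * (n i * n i) * x⁻¹ := by
    have e3 : n i * x = a * tx R i x * n i * n i := by rw [← e1]; group
    calc n i = n i * x * x⁻¹ := by group
      _ = _ := by rw [e3]; group
  rw [e2]
  exact mul_mem (mul_mem (mul_mem (RGD.X_le_B (T := T) (isRoot_sr cs h i) (sr_nonneg i) ha)
    (RGD.T_le_B (tx_mem R i x))) (RGD.T_le_B (R.sq_mem_T i)))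
    (inv_mem (RGD.X_le_B (T := T) (isRoot_sr cs h i) (sr_nonneg i) hx))

theorem cjl_fix {i : I} {nu : ↥T →* ℂˣ} (hinv : cjl (rp_simple cs R.nsys i).mem_normalizer nu = nu) (t : Y)
    (ht : t ∈ T) (ht' : n i * t * (n i)⁻¹ ∈ T) : nu ⟨n i * t * (n i)⁻¹, ht'⟩ = nu ⟨t, ht⟩ := by
  have h1 := DFunLike.congr_fun hinv ⟨n i * t * (n i)⁻¹, ht'⟩
  rw [← h1]
  have e : (n i)⁻¹ * (n i * t * (n i)⁻¹) * n i = t := by group
  rw [cjl_apply (rp_simple cs R.nsys i).mem_normalizer nu ht' (by rw [e]; exact ht)]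
  congr 1
  exact Subtype.ext e

/-- every nontrivial character of `X_i` is a component `psiX` -/
theorem exists_psiX [Fact p.Prime] {n₀ : Y} (hn₀ : Rp cs R.nsys (w0 cs) n₀) (i : I) (f : ↥(X (sr i)) →* ℂˣ)
    (hf : f ≠ 1) : ∃ psi : ↥(UU cs h X) →* ℂˣ, Nondeg psi ∧ psiX R psi hn₀ i = f := by
  have hg := (rp_simple cs R.nsys i).mul hn₀
  have hup : ∀ x ∈ X (sr (op cs i)), (n i * n₀) * x * (n i * n₀)⁻¹ ∈ X (sr i) := by
    intro x hx
    have h2 := R.conj_mem hg (isRoot_sr cs h (op cs i)) hx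
    have e : rep cs h (cs.simple i * w0 cs) (sr (op cs i)) = sr i := by
      rw [← rep_inv_eq R i, rep_apply_inv]
    rwa [e] at h2
  have hdn : ∀ x ∈ X (sr i), (n i * n₀)⁻¹ * x * (n i * n₀) ∈ X (sr (op cs i)) := by
    intro x hx
    have h2 := R.conj_mem' hg (isRoot_sr cs h i) hx
    rwa [rep_inv_eq R i] at h2
  let c : ↥(X (sr (op cs i))) →* ↥(X (sr i)) :=
    { toFun := fun x => ⟨(n i * n₀) * x * (n i * n₀)⁻¹, hup x x.2⟩
      map_one' := Subtype.ext (by simp)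
      map_mul' := fun a b => Subtype.ext (by simp only [Subgroup.coe_mul]; group) }
  have hc : ∀ x (hx : x ∈ X (sr i)), c ⟨(n i * n₀)⁻¹ * x * (n i * n₀), hdn x hx⟩ = ⟨x, hx⟩ := by
    intro x hx
    apply Subtype.ext
    show (n i * n₀) * ((n i * n₀)⁻¹ * x * (n i * n₀)) * (n i * n₀)⁻¹ = x
    group
  have hf' : f.comp c ≠ 1 := by
    intro h1
    apply hf
    ext x
    have h2 := congrArg (fun g => g ⟨(n i * n₀)⁻¹ * x * (n i * n₀), hdn x x.2⟩) h1
    simp only [MonoidHom.comp_apply, MonoidHom.one_apply] at h2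
    rw [hc x x.2] at h2
    rw [MonoidHom.one_apply, ← h2]
  obtain ⟨psi, hpsi, hval⟩ := exists_psi R (op cs i) (f.comp c) hf'
  refine ⟨psi, hpsi, ?_⟩
  ext x
  rw [psiX_apply, hval _ (hdn x x.2), MonoidHom.comp_apply, hc x x.2]

/-- the quadratic equation -/
theorem alf_quad {psi : ↥(UU cs h X) →* ℂˣ} (hpsi : Nondeg psi) {n₀ : Y}
    (hn₀ : Rp cs R.nsys (w0 cs) n₀) (i : I) {nu : ↥T →* ℂˣ}
    (hinv : cjl (rp_simple cs R.nsys i).mem_normalizer nu = nu) :
    alf R psi hn₀ i nu * alf R psi hn₀ i nu = (Nat.card (X (sr i)) : ℂ)⁻¹ *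
      ((nu ⟨n i * n i, R.sq_mem_T i⟩ : ℂˣ) : ℂ) * (1 + zet R i nu * alf R psi hn₀ i nu) := by
  have h1 := (hrep_SE R psi).sq R i (u := wE R psi nu n₀) (nu := nu) (fun t ht => SE_wE R psi nu n₀ ht)
  have h2 := SE_n R hpsi hn₀ i nu (cjl_fix R hinv)
  rw [hinv, h2, map_smul, h2, smul_smul, smul_smul] at h1
  have h3 : wE R psi nu n₀ + (zet R i nu * alf R psi hn₀ i nu) • wE R psi nu n₀ =
      (1 + zet R i nu * alf R psi hn₀ i nu) • wE R psi nu n₀ := by rw [add_smul, one_smul]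
  rw [h3, smul_smul] at h1
  exact smul_left_injective ℂ (wE_ne R psi nu hn₀) h1

/-- the case `ν(t(x)) = 1` -/
theorem alf_of_one {psi : ↥(UU cs h X) →* ℂˣ} (hpsi : Nondeg psi) {n₀ : Y}
    (hn₀ : Rp cs R.nsys (w0 cs) n₀) (i : I) {nu : ↥T →* ℂˣ}
    (hinv : cjl (rp_simple cs R.nsys i).mem_normalizer nu = nu)
    (h1 : ∀ x ∈ X (sr i), x ≠ 1 → nu ⟨tx R i x, tx_mem R i x⟩ = 1) :
    (1 + zet R i nu * alf R psi hn₀ i nu) * (Nat.card (X (sr i)) : ℂ) = 1 := by
  classical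
  let iF : Fintype ↥(X (sr i)) := Fintype.ofFinite _
  have hq := card_ne (X (sr i))
  have hz : zet R i nu = (Nat.card (X (sr i)) : ℂ) - 1 := by
    have e : zet R i nu = ∑ x : X (sr i), ((1 : ℂ) - if x = 1 then 1 else 0) := by
      unfold zet
      refine Finset.sum_congr rfl fun x _ => ?_
      by_cases hx : x = 1
      · rw [if_pos (by rw [hx]; rfl), if_pos hx, sub_self]
      · rw [if_neg (fun h2 : (x : Y) = 1 => hx (Subtype.ext h2)), if_neg hx, sub_zero,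
          h1 x x.2 (fun h2 => hx (Subtype.ext h2)), Units.val_one]
    rw [e, Finset.sum_sub_distrib, Finset.sum_ite_eq' Finset.univ (1 : ↥(X (sr i))), if_pos (Finset.mem_univ _),
      Finset.sum_const, Finset.card_univ, Nat.card_eq_fintype_card, nsmul_eq_mul, mul_one]
  have hA : alf R psi hn₀ i nu = - ((Nat.card (X (sr i)) : ℂ)⁻¹ * ((nu ⟨n i * n i, R.sq_mem_T i⟩ : ℂˣ) : ℂ)) := by
    let F : ↥(X (sr i)) → ↥(X (sr i)) := fun x => if hx : (x : Y) ≠ 1 then ⟨bx R i x, (bx_spec R x.2 hx).1⟩ else 1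
    have hF1 : ∀ (x : ↥(X (sr i))) (hx : (x : Y) ≠ 1), F x = ⟨bx R i x, (bx_spec R x.2 hx).1⟩ := fun x hx => dif_pos hx
    have hF0 : ∀ x : ↥(X (sr i)), ¬ (x : Y) ≠ 1 → F x = 1 := fun x hx => dif_neg hx
    have hinj : Function.Injective F := by
      intro x y e
      by_cases hx : (x : Y) ≠ 1
      · by_cases hy : (y : Y) ≠ 1
        · rw [hF1 x hx, hF1 y hy] at e
          exact Subtype.ext (bx_injective R x.2 hx y.2 hy (congrArg Subtype.val e))
        · rw [hF1 x hx, hF0 y hy] at e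
          exact absurd (congrArg Subtype.val e) (bx_ne R x.2 hx)
      · by_cases hy : (y : Y) ≠ 1
        · rw [hF1 y hy, hF0 x hx] at e
          exact absurd (congrArg Subtype.val e).symm (bx_ne R y.2 hy)
        · exact Subtype.ext ((not_not.1 hx).trans (not_not.1 hy).symm)
    have hbij : Function.Bijective F := Finite.injective_iff_bijective.1 hinj
    have hsum : ∑ x : ↥(X (sr i)), ((psiX R psi hn₀ i (F x) : ℂˣ) : ℂ) = 0 := by
      rw [Function.Bijective.sum_comp hbij (fun b => ((psiX R psi hn₀ i b : ℂˣ) : ℂ))]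
      refine sum_hom_units_eq_zero ((Units.coeHom ℂ).comp (psiX R psi hn₀ i)) fun h2 => ?_
      apply psiX_ne R hpsi hn₀ i
      ext x
      exact congrArg (fun g => g x) h2
    unfold alf
    have e : ∀ x : ↥(X (sr i)), (if hx : (x : Y) ≠ 1 then ((nu ⟨tx R i x, tx_mem R i x⟩ : ℂˣ) : ℂ) *
        ((psiX R psi hn₀ i ⟨bx R i x, (bx_spec R x.2 hx).1⟩ : ℂˣ) : ℂ) else 0) =
        ((psiX R psi hn₀ i (F x) : ℂˣ) : ℂ) - if x = 1 then 1 else 0 := by
      intro x
      split_ifs with hx hx2 hx2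
      · exact absurd (by rw [hx2]; rfl) hx
      · rw [h1 x x.2 hx, Units.val_one, one_mul, hF1 x hx, sub_zero]
      · rw [hF0 x hx, map_one, Units.val_one, sub_self]
      · exact absurd (Subtype.ext (not_not.1 hx)) hx2
    rw [Finset.sum_congr rfl fun x _ => e x, Finset.sum_sub_distrib, hsum,
      Finset.sum_ite_eq' Finset.univ (1 : ↥(X (sr i))), if_pos (Finset.mem_univ _)]
    ring
  have h3 := alf_quad R hpsi hn₀ i hinv
  set μ := ((nu ⟨n i * n i, R.sq_mem_T i⟩ : ℂˣ) : ℂ) with hμ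
  have hμ0 : μ ≠ 0 := Units.ne_zero _
  have hμ1 : μ = 1 := by
    rw [hA, hz] at h3
    field_simp at h3
    have h4 : (Nat.card (X (sr i)) : ℂ) * μ = (Nat.card (X (sr i)) : ℂ) := by linear_combination h3
    exact mul_left_cancel₀ hq (by rw [h4, mul_one])
  rw [hA, hz, hμ1]
  field_simp
  ring

/-- **the factor at a node of type `SL_2`** -/
theorem sl_alf {i : I} (hSL : SLNode T n X i) {psi : ↥(UU cs h X) →* ℂˣ} (hpsi : Nondeg psi)
    {n₀ : Y} (hn₀ : Rp cs R.nsys (w0 cs) n₀) {nu : ↥T →* ℂˣ}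
    (hinv : cjl (rp_simple cs R.nsys i).mem_normalizer nu = nu) :
    ∃ m : ℕ, (1 + zet R i nu * alf R psi hn₀ i nu) * (m : ℂ) = 1 := by
  classical
  obtain ⟨K, _, _, f, e, hfT, hdec⟩ := hSL
  have htx : ∀ x : {x : Y // x ∈ X (sr i) ∧ x ≠ 1}, tx R i x = f (e x) := by
    intro x
    obtain ⟨a, ha, b, hb, e1⟩ := hdec x
    exact (tx_unique R x.2.1 x.2.2 (hfT _) ha hb e1).1
  let g : K →* ℂˣ := nu.comp
    { toFun := fun k => ⟨f k, hfT k⟩
      map_one' := Subtype.ext (map_one f)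
      map_mul' := fun a b => Subtype.ext (map_mul f a b) }
  by_cases hg : g = 1
  · refine ⟨Nat.card (X (sr i)), alf_of_one R hpsi hn₀ i hinv fun x hx hx1 => ?_⟩
    have h1 := congrArg (fun g => g (e ⟨x, hx, hx1⟩)) hg
    simp only [MonoidHom.one_apply] at h1
    rw [← h1]
    show nu _ = nu _
    congr 1
    exact Subtype.ext (htx ⟨x, hx, hx1⟩)
  · refine ⟨1, ?_⟩
    have hz : zet R i nu = 0 := by
      let iF : Fintype ↥(X (sr i)) := Fintype.ofFinite _
      let iK : Fintype K := Fintype.ofFinite _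
      have h1 : ∑ k : K, ((g k : ℂˣ) : ℂ) = 0 := by
        refine sum_hom_units_eq_zero ((Units.coeHom ℂ).comp g) fun h2 => hg ?_
        ext x
        exact congrArg (fun g => g x) h2
      have h2 : zet R i nu = ∑ x : ↥(X (sr i)), if (x : Y) = 1 then 0 else
          ((nu ⟨tx R i x, tx_mem R i x⟩ : ℂˣ) : ℂ) := by
        unfold zet
        rfl
      rw [h2]
      refine Eq.trans ?_ h1
      symm
      let φ : K → ↥(X (sr i)) := fun k => ⟨(e.symm k : Y), (e.symm k).2.1⟩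
      have hφ : Function.Injective φ := by
        intro k k' hk
        have : e.symm k = e.symm k' := Subtype.ext (congrArg (fun z : ↥(X (sr i)) => (z : Y)) hk)
        exact e.symm.injective this
      have h3 : ∑ k : K, ((g k : ℂˣ) : ℂ) = ∑ k : K, (fun x : ↥(X (sr i)) => if (x : Y) = 1 then 0 else
          ((nu ⟨tx R i x, tx_mem R i x⟩ : ℂˣ) : ℂ)) (φ k) := by
        refine Finset.sum_congr rfl fun k _ => ?_
        have hk1 : (φ k : Y) ≠ 1 := (e.symm k).2.2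
        show ((g k : ℂˣ) : ℂ) = if (φ k : Y) = 1 then 0 else
          ((nu ⟨tx R i (φ k), tx_mem R i (φ k)⟩ : ℂˣ) : ℂ)
        rw [if_neg hk1]
        show ((nu _ : ℂˣ) : ℂ) = ((nu _ : ℂˣ) : ℂ)
        congr 2
        apply Subtype.ext
        have h4 := htx (e.symm k)
        rw [e.apply_symm_apply] at h4
        exact h4.symm
      rw [h3, ← Finset.sum_image (f := fun x : ↥(X (sr i)) => if (x : Y) = 1 then 0 else
          ((nu ⟨tx R i x, tx_mem R i x⟩ : ℂˣ) : ℂ)) (g := φ) (fun a _ b _ hab => hφ hab)]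
      refine Finset.sum_subset (Finset.subset_univ _) fun x _ hx => ?_
      by_contra hne
      have hx1 : (x : Y) ≠ 1 := fun h5 => hne (if_pos h5)
      apply hx
      rw [Finset.mem_image]
      refine ⟨e ⟨x, x.2, hx1⟩, Finset.mem_univ _, Subtype.ext ?_⟩
      show ((e.symm (e ⟨x, x.2, hx1⟩) : {x : Y // x ∈ X (sr i) ∧ x ≠ 1}) : Y) = x
      rw [e.symm_apply_apply]
    rw [hz, zero_mul, add_zero, one_mul, Nat.cast_one]

end Cfsg.Agent.H684.OQ
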