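import Mathlib

/-!
# S4884, own odd characteristic: averages over subgroups in the group algebra (helper684)
-/

set_option autoImplicit false

namespace Cfsg.Agent.H684.OQ

universe u

variable {Y : Type u} [Group Y]

/-- the group algebra -/
abbrev Al (Y : Type u) [Group Y] : Type u := MonoidAlgebra ℂ Y

/-- the element `g` of the group algebra -/
noncomputable def dl (g : Y) : Al Y := MonoidAlgebra.of ℂ Y g

theorem dl_mul (g k : Y) : dl (g * k) = dl g * dl k := map_mul _ _ _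

theorem dl_one : dl (1 : Y) = 1 := map_one _

theorem dl_mul_inv (g : Y) : dl g * dl g⁻¹ = 1 := by rw [← dl_mul, mul_inv_cancel, dl_one]

theorem dl_inv_mul (g : Y) : dl g⁻¹ * dl g = 1 := by rw [← dl_mul, inv_mul_cancel, dl_one]

/-- every element is a combination of the `dl g` -/
theorem al_induction {p : Al Y → Prop} (hd : ∀ g, p (dl g)) (ha : ∀ a b, p a → p b → p (a + b))
    (hs : ∀ (c : ℂ) a, p a → p (c • a)) (a : Al Y) : p a :=
  MonoidAlgebra.induction_on (motive := p) a (fun g => hd g) ha fun c f h => hs c f h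

/-- the linear extension of a function on the group -/
noncomputable def lin {V : Type*} [AddCommGroup V] [Module ℂ V] (F : Y → V) : Al Y →ₗ[ℂ] V :=
  (Finsupp.linearCombination ℂ F).comp (MonoidAlgebra.coeffLinearEquiv ℂ).toLinearMap

theorem lin_dl {V : Type*} [AddCommGroup V] [Module ℂ V] (F : Y → V) (g : Y) : lin F (dl g) = F g := by
  unfold lin dl
  simp

variable {P : Subgroup Y} (ψ : P →* ℂˣ)

/-- `|P|⁻¹ ∑ ψ(u)⁻¹ u` -/
noncomputable def av [Finite Y] : Al Y :=
  letI := Fintype.ofFinite P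
  (Nat.card P : ℂ)⁻¹ • ∑ u : P, (((ψ u)⁻¹ : ℂˣ) : ℂ) • dl (u : Y)

variable [Finite Y]

theorem av_def [Fintype P] : av ψ = (Nat.card P : ℂ)⁻¹ • ∑ u : P, (((ψ u)⁻¹ : ℂˣ) : ℂ) • dl (u : Y) := by
  unfold av
  congr!

theorem card_ne (P : Subgroup Y) : (Nat.card P : ℂ) ≠ 0 := by
  exact_mod_cast Nat.card_pos.ne'

theorem dl_mul_av (v : P) : dl (v : Y) * av ψ = ((ψ v : ℂˣ) : ℂ) • av ψ := by
  have := Fintype.ofFinite P
  rw [av_def, mul_smul_comm, smul_comm ((ψ v : ℂˣ) : ℂ)]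
  congr 1
  rw [Finset.mul_sum, Finset.smul_sum]
  refine Fintype.sum_equiv (Equiv.mulLeft v) _ _ fun u => ?_
  rw [Equiv.coe_mulLeft, mul_smul_comm, smul_smul, map_mul, mul_inv, Units.val_mul, ← mul_assoc, Units.mul_inv,
    one_mul, Subgroup.coe_mul, dl_mul]

theorem av_mul_dl (v : P) : av ψ * dl (v : Y) = ((ψ v : ℂˣ) : ℂ) • av ψ := by
  have := Fintype.ofFinite P
  rw [av_def, smul_mul_assoc, smul_comm ((ψ v : ℂˣ) : ℂ)]
  congr 1
  rw [Finset.sum_mul, Finset.smul_sum]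
  refine Fintype.sum_equiv (Equiv.mulRight v) _ _ fun u => ?_
  rw [Equiv.coe_mulRight, smul_mul_assoc, smul_smul, map_mul, mul_inv, Units.val_mul, Subgroup.coe_mul, dl_mul,
    mul_left_comm, Units.mul_inv, mul_one]

/-- averaging -/
theorem avg_eq {a b c : Al Y} (h : ∀ u : P, (((ψ u)⁻¹ : ℂˣ) : ℂ) • (a * dl (u : Y) * b) = c) :
    a * av ψ * b = c := by
  have := Fintype.ofFinite P
  rw [av_def, mul_smul_comm, smul_mul_assoc, Finset.mul_sum, Finset.sum_mul]
  have h1 : ∀ u : P, a * ((((ψ u)⁻¹ : ℂˣ) : ℂ) • dl (u : Y)) * b = c := by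
    intro u
    rw [mul_smul_comm, smul_mul_assoc]
    exact h u
  rw [Finset.sum_congr rfl fun u _ => h1 u, Finset.sum_const, Finset.card_univ, ← Nat.card_eq_fintype_card,
    ← Nat.cast_smul_eq_nsmul ℂ, smul_smul, inv_mul_cancel₀ (card_ne P), one_smul]

theorem av_mul_av : av ψ * av ψ = av ψ := by
  have h := avg_eq ψ (a := 1) (b := av ψ) (c := av ψ) fun u => by
    rw [one_mul, dl_mul_av, smul_smul, Units.inv_mul, one_smul]
  rwa [one_mul] at h

/-- `g` normalises `P` and preserves `ψ` -/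
theorem dl_comm_av {g : Y} (hg : g ∈ Subgroup.normalizer (P : Set Y))
    (hψ : ∀ (u : P) (hu : g * u * g⁻¹ ∈ P), ψ ⟨g * u * g⁻¹, hu⟩ = ψ u) : dl g * av ψ = av ψ * dl g := by
  have := Fintype.ofFinite P
  rw [av_def, mul_smul_comm, smul_mul_assoc]
  congr 1
  rw [Finset.mul_sum, Finset.sum_mul]
  have hm : ∀ u : P, g * u * g⁻¹ ∈ P := fun u => (Subgroup.mem_normalizer_iff.1 hg u).1 u.2
  have hm' : ∀ u : P, g⁻¹ * u * g ∈ P := fun u => by
    have h1 := (Subgroup.mem_normalizer_iff.1 (inv_mem hg) u).1 u.2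
    rwa [inv_inv] at h1
  let φ : P ≃ P :=
    { toFun := fun u => ⟨g * u * g⁻¹, hm u⟩
      invFun := fun u => ⟨g⁻¹ * u * g, hm' u⟩
      left_inv := fun u => Subtype.ext (by simp only; group)
      right_inv := fun u => Subtype.ext (by simp only; group) }
  refine Fintype.sum_equiv φ _ _ fun u => ?_
  have e1 : ψ (φ u) = ψ u := hψ u (hm u)
  have e2 : ((φ u : P) : Y) = g * u * g⁻¹ := rfl
  rw [e1, e2, mul_smul_comm, smul_mul_assoc, ← dl_mul, ← dl_mul]
  congr 2
  group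

/-- the values of a linear extension at an average -/
theorem lin_av {V : Type*} [AddCommGroup V] [Module ℂ V] (F : Y → V) (a b : Al Y) [Fintype P] :
    lin F (a * av ψ * b) = (Nat.card P : ℂ)⁻¹ • ∑ u : P, (((ψ u)⁻¹ : ℂˣ) : ℂ) • lin F (a * dl (u : Y) * b) := by
  rw [av_def, mul_smul_comm, smul_mul_assoc, Finset.mul_sum, Finset.sum_mul, map_smul, map_sum]
  congr 1
  refine Finset.sum_congr rfl fun u _ => ?_
  rw [mul_smul_comm, smul_mul_assoc, map_smul]

end Cfsg.Agent.H684.OQ
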