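import Cfsg.Agent.H684.OQ.Hk

/-!
# S4884, own odd characteristic: the orders of the cells (helper684)

`qc w = |B w B| / |B|`.
-/

set_option autoImplicit false
set_option linter.unusedSectionVars false

open Cfsg

namespace Cfsg.Agent.H684.OQ

open CoxeterSystem Cfsg.Agent.ChevalleyStructure.CoxeterGeom Cfsg.Agent.Tits.Roots Cfsg.Agent.Tits.Core
  Cfsg.Agent.Tits.Exchange Cfsg.Agent.Nodes.Reps Cfsg.Agent.Nodes.BNOf Cfsg.Agent.Nodes.StabComb
  Cfsg.Agent.Nodes.Bruhat Cfsg.Agent.Nodes.OppDec Cfsg.Agent.Nodes.LeviDec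

universe u

variable {I W : Type*} {Y : Type u} [Fintype I] [DecidableEq I] [Group W] [Finite W] [Group Y] [Finite Y]
  {M : CoxeterMatrix I} {cs : CoxeterSystem M W} {A : I → I → ℤ} {h : IsCartan M A} {p : ℕ} {T : Subgroup Y}
  {n : I → Y} {X : (I → ℤ) → Subgroup Y} (R : RGD cs h p T n X)

include R

/-- `|B w B| / |B|` -/
noncomputable def qc (w : W) : ℂ :=
  (Nat.card {g : Y // Cell R.nsys cs h X w g} : ℂ) / (Nat.card (RGD.B cs h T X) : ℂ)

theorem card_cell_one : Nat.card {g : Y // Cell R.nsys cs h X (1 : W) g} = Nat.card (RGD.B cs h T X) := by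
  refine Nat.card_congr (Equiv.subtypeEquivRight fun g => ?_)
  constructor
  · rintro ⟨b₁, hb₁, k, hk, b₂, hb₂, rfl⟩
    exact mul_mem (mul_mem hb₁ (RGD.T_le_B hk.mem_of_one)) hb₂
  · intro hg
    exact cell_one_of_mem hg

theorem qc_one : qc R (1 : W) = 1 := by
  unfold qc
  rw [card_cell_one R, div_self (card_ne _)]

theorem card_cell_pos (w : W) : 0 < Nat.card {g : Y // Cell R.nsys cs h X w g} := by
  obtain ⟨g, hg⟩ := exists_rp cs R.nsys w
  have : Nonempty {g : Y // Cell R.nsys cs h X w g} := ⟨⟨g, cell_of_rp hg⟩⟩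
  exact Nat.card_pos

theorem qc_ne (w : W) : qc R w ≠ 0 := by
  unfold qc
  refine div_ne_zero ?_ (card_ne _)
  exact_mod_cast (card_cell_pos R w).ne'

theorem qc_inv (w : W) : qc R w⁻¹ = qc R w := by
  unfold qc
  congr 2
  refine Nat.card_congr ⟨fun g => ⟨(g : Y)⁻¹, by simpa using g.2.inv⟩, fun g => ⟨(g : Y)⁻¹, g.2.inv⟩, fun g => ?_,
    fun g => ?_⟩
  · exact Subtype.ext (inv_inv _)
  · exact Subtype.ext (inv_inv _)

/-- a nontrivial element of `X (-α_i)` lies in the cell of `s_i` -/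
theorem cell_neg (i : I) {z : Y} (hz : z ∈ X (-sr i)) (hz1 : z ≠ 1) :
    Cell R.nsys cs h X (cs.simple i) z := by
  obtain ⟨a, ha, t, ht, b, hb, e⟩ := R.rk1 i z hz hz1
  have haB := RGD.X_le_B (T := T) (isRoot_sr cs h i) (sr_nonneg i) ha
  have hbB := RGD.X_le_B (T := T) (isRoot_sr cs h i) (sr_nonneg i) hb
  have htB := RGD.T_le_B (cs := cs) (h := h) (X := X) ht
  exact ⟨a * t, mul_mem haB htB, n i, rp_simple cs R.nsys i, b, hbB, e⟩

theorem card_cell_mul {i : I} {w : W} (hl : cs.length w < cs.length (cs.simple i * w)) :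
    Nat.card {g : Y // Cell R.nsys cs h X (cs.simple i * w) g} =
      Nat.card (X (sr i)) * Nat.card {g : Y // Cell R.nsys cs h X w g} := by
  have hlen : cs.length (cs.simple i * w) = cs.length (cs.simple i) + cs.length w := by
    have h1 := cs.length_mul_le (cs.simple i) w
    rw [cs.length_simple] at h1 ⊢
    omega
  rw [← Nat.card_prod]
  symm
  have hxn : ∀ x ∈ X (sr i), Cell R.nsys cs h X (cs.simple i) (x * n i) := fun x hx =>
    ⟨x, RGD.X_le_B (isRoot_sr cs h i) (sr_nonneg i) hx, n i, rp_simple cs R.nsys i, 1, one_mem _, by group⟩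
  refine Nat.card_eq_of_bijective (fun q : X (sr i) × {g : Y // Cell R.nsys cs h X w g} =>
    (⟨(q.1 : Y) * n i * q.2, Cell.mul_of_length R hlen (hxn q.1 q.1.2) q.2.2⟩ :
      {g : Y // Cell R.nsys cs h X (cs.simple i * w) g})) ⟨?_, ?_⟩
  · rintro ⟨x, c⟩ ⟨x', c'⟩ he
    have e : (x : Y) * n i * c = x' * n i * c' := congrArg Subtype.val he
    have hy : (x' : Y)⁻¹ * x ∈ X (sr i) := mul_mem (inv_mem x'.2) x.2
    have e2 : ((n i)⁻¹ * ((x' : Y)⁻¹ * x) * n i) * c = c' := by
      have : ((n i)⁻¹ * ((x' : Y)⁻¹ * x) * n i) * (c : Y) = (n i)⁻¹ * (x' : Y)⁻¹ * (x * n i * c) := by group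
      rw [this, e]
      group
    by_cases h1 : (n i)⁻¹ * ((x' : Y)⁻¹ * x) * n i = 1
    · have h2 : (x' : Y)⁻¹ * x = 1 := by
        have : (x' : Y)⁻¹ * x = n i * ((n i)⁻¹ * ((x' : Y)⁻¹ * x) * n i) * (n i)⁻¹ := by group
        rw [this, h1]; group
      have h3 : x = x' := Subtype.ext (inv_mul_eq_one.1 h2).symm
      rw [h1, one_mul] at e2
      exact Prod.ext h3 (Subtype.ext e2)
    · exfalso
      have hz : (n i)⁻¹ * ((x' : Y)⁻¹ * x) * n i ∈ X (-sr i) := by
        have := R.conj_mem' (rp_simple cs R.nsys i) (isRoot_sr cs h i) hy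
        rwa [cs.inv_simple, rep_simple_sr] at this
      have h2 := Cell.mul_of_length R hlen (cell_neg R i hz h1) c.2
      rw [e2] at h2
      have h3 := Cell.unique R h2 c'.2
      rw [h3] at hl
      exact lt_irrefl _ hl
  · rintro ⟨g, b₁, hb₁, k, hk, b₂, hb₂, rfl⟩
    have hk' : Rp cs R.nsys w ((n i)⁻¹ * k) := by
      have := (rp_simple cs R.nsys i).inv.mul hk
      rwa [cs.inv_simple, ← mul_assoc, cs.simple_mul_simple_self, one_mul] at this
    obtain ⟨v, hv, x, hx, t, ht, rfl⟩ := R.mem_B' i hb₁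
    have hv' : x⁻¹ * v * x ∈ RGD.Sup X (RGD.PosNe cs h i) := by
      have := (Subgroup.mem_normalizer_iff.1 (inv_mem (R.X_le_normalizer_V i hx)) v).1 hv
      rwa [inv_inv] at this
    have hv'' : (n i)⁻¹ * (x⁻¹ * v * x) * n i ∈ RGD.Sup X (RGD.PosNe cs h i) := by
      rw [← R.cj_n_V i, mem_cj] at hv'
      exact hv'
    have ht' : (n i)⁻¹ * t * n i ∈ T := by
      have := (Subgroup.mem_normalizer_iff.1 (inv_mem (R.nsys.norm i)) t).1 ht
      rwa [inv_inv] at this
    refine ⟨⟨⟨x, hx⟩, ⟨((n i)⁻¹ * (x⁻¹ * v * x) * n i) * ((n i)⁻¹ * t * n i) * ((n i)⁻¹ * k) * b₂, ?_⟩⟩, ?_⟩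
    · exact ⟨_, mul_mem (RGD.U_le_B (V_le_U i hv'')) (RGD.T_le_B ht'), _, hk', b₂, hb₂, rfl⟩
    · apply Subtype.ext
      show x * n i * (((n i)⁻¹ * (x⁻¹ * v * x) * n i) * ((n i)⁻¹ * t * n i) * ((n i)⁻¹ * k) * b₂) = v * x * t * k * b₂
      group

theorem qc_mul_simple {i : I} {w : W} (hl : cs.length w < cs.length (cs.simple i * w)) :
    qc R (cs.simple i * w) = (Nat.card (X (sr i)) : ℂ) * qc R w := by
  unfold qc
  rw [card_cell_mul R hl, Nat.cast_mul, mul_div_assoc]

theorem qc_simple (i : I) : qc R (cs.simple i) = (Nat.card (X (sr i)) : ℂ) := by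
  have h1 := qc_mul_simple R (i := i) (w := 1) (by rw [mul_one, cs.length_one, cs.length_simple]; exact one_pos)
  rwa [mul_one, qc_one, mul_one] at h1

theorem qc_mul {v : W} : ∀ {w : W}, cs.length (v * w) = cs.length v + cs.length w →
    qc R (v * w) = qc R v * qc R w := by
  induction hn : cs.length v generalizing v with
  | zero =>
    intro w _
    have h1 : v = 1 := cs.length_eq_zero_iff.1 hn
    subst h1
    rw [one_mul, qc_one, one_mul]
  | succ N ih =>
    intro w hlen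
    obtain ⟨i, hi⟩ := cs.exists_leftDescent_of_ne_one (w := v) (fun h1 => by
      rw [h1, cs.length_one] at hn
      exact absurd hn (Nat.succ_ne_zero N).symm)
    have hi' := cs.isLeftDescent_iff.1 hi
    have hl1 : cs.length (cs.simple i * v) = N := by omega
    have hvw : cs.length (cs.simple i * v * w) = N + cs.length w := by
      have h2 := cs.length_mul_le (cs.simple i * v) w
      have h3 := cs.length_mul_le (cs.simple i) (cs.simple i * v * w)
      rw [← mul_assoc, ← mul_assoc, cs.simple_mul_simple_self, one_mul, cs.length_simple] at h3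
      omega
    have e0 : cs.simple i * (cs.simple i * v) = v := by
      rw [← mul_assoc, cs.simple_mul_simple_self, one_mul]
    have e4 : cs.simple i * (cs.simple i * v * w) = v * w := by
      rw [← mul_assoc, ← mul_assoc, cs.simple_mul_simple_self, one_mul]
    have h1 := qc_mul_simple R (i := i) (w := cs.simple i * v) (by rw [e0]; omega)
    have h2 := qc_mul_simple R (i := i) (w := cs.simple i * v * w) (by rw [e4]; omega)
    rw [e0] at h1
    rw [e4] at h2
    rw [h2, h1, ih hl1 hvw, mul_assoc]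

end Cfsg.Agent.H684.OQ
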