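import Cfsg.Agent.H69.OQ.Def
import Cfsg.Agent.Nodes.Bruhat

/-!
# S4884, own odd characteristic: the input for a family (helper684)

`In p cs h T n X` : what the theory (I') needs from a root group datum of the simple group in odd characteristic `p`.
-/

set_option autoImplicit false

namespace Cfsg.Agent.H684.OQ

open CoxeterSystem Cfsg.Agent.ChevalleyStructure.CoxeterGeom Cfsg.Agent.Tits.Roots Cfsg.Agent.Nodes.Reps
  Cfsg.Agent.Nodes.BNOf Cfsg.Agent.Nodes.Bruhat

universe u

variable {I W : Type*} {Y : Type u} [Fintype I] [DecidableEq I] [Group W] [Group Y] {M : CoxeterMatrix I}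

/-- the node `i` is of type `SL_2`: `n_i x n_i⁻¹ = a f(e x) n_i b` with `a, b ∈ X_i`, a bijection `e` of `X_i - 1` onto a
finite group `K` and a homomorphism `f : K → T` -/
def SLNode (T : Subgroup Y) (n : I → Y) (X : (I → ℤ) → Subgroup Y) (i : I) : Prop :=
  ∃ (K : Type) (_ : Group K) (_ : Finite K) (f : K →* Y) (e : {x : Y // x ∈ X (sr i) ∧ x ≠ 1} ≃ K),
    (∀ k, f k ∈ T) ∧
    ∀ x, ∃ a ∈ X (sr i), ∃ b ∈ X (sr i), n i * x * (n i)⁻¹ = a * f (e x) * n i * b

/-- an element of odd order of `W` which centralises the `2`-elements of `T` is trivial -/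
def TWFaithful (cs : CoxeterSystem M W) (T : Subgroup Y) (n : I → Y) (hN : NSys M T n) : Prop :=
  ∀ (w : W) (g : Y), Rp cs hN w g → Odd (orderOf w) → (∀ t ∈ T, (∃ k : ℕ, t ^ 2 ^ k = 1) → g * t = t * g) → w = 1

/-- **the input** -/
structure In (p : ℕ) (cs : CoxeterSystem M W) {A : I → I → ℤ} (h : IsCartan M A) (T : Subgroup Y) (n : I → Y)
    (X : (I → ℤ) → Subgroup Y) : Prop where
  rgd : RGD cs h p T n X
  top : GG cs h T X = ⊤
  comm : ∀ a ∈ T, ∀ b ∈ T, a * b = b * a
  nofix : H69.OQ.NoFix cs h T X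
  node : ∀ i, SLNode T n X i
  faith : TWFaithful cs T n rgd.nsys

/-- the group `G` has an input of the type `M` -/
def HasIn (p : ℕ) (M : CoxeterMatrix I) (G : Type u) [Group G] : Prop :=
  ∃ (A : I → I → ℤ) (h : IsCartan M A) (T : Subgroup G) (n : I → G) (X : (I → ℤ) → Subgroup G),
    Finite M.Group ∧ In p M.toCoxeterSystem h T n X

end Cfsg.Agent.H684.OQ
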