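import Cfsg.Agent.H40.OQ.Sf
import Cfsg.Agent.H684.OQ.Alf
import Cfsg.Agent.Blocks.Basic

/-!
# S4884, own odd characteristic: the degree is prime to `p` (helper684)
-/

set_option autoImplicit false
set_option linter.unusedSectionVars false

open Cfsg

namespace Cfsg.Agent.H684.OQ

open CoxeterSystem Cfsg.Agent.ChevalleyStructure.CoxeterGeom Cfsg.Agent.Tits.Roots Cfsg.Agent.Tits.Core
  Cfsg.Agent.Tits.Exchange Cfsg.Agent.Nodes.Reps Cfsg.Agent.Nodes.BNOf Cfsg.Agent.Nodes.StabComb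
  Cfsg.Agent.Nodes.Bruhat Cfsg.Agent.Nodes.OppDec Cfsg.Agent.Nodes.LeviDec

universe u v

variable {I W : Type*} {Y : Type u} [Fintype I] [DecidableEq I] [Group W] [Finite W] [Group Y] [Finite Y]
  {M : CoxeterMatrix I} {cs : CoxeterSystem M W} {A : I → I → ℤ} {h : IsCartan M A} {p : ℕ} {T : Subgroup Y}
  {n : I → Y} {X : (I → ℤ) → Subgroup Y} (R : RGD cs h p T n X)

include R

/-- `|B w B| = |B| k`, `k = 1` or `p ∣ k` -/
theorem card_cell (hp : p.Prime) (w : W) : ∃ k : ℕ, Nat.card {g : Y // Cell R.nsys cs h X w g} =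
    Nat.card (RGD.B cs h T X) * k ∧ (w = 1 → k = 1) ∧ (w ≠ 1 → p ∣ k) := by
  have : Fact p.Prime := ⟨hp⟩
  induction hl : cs.length w generalizing w with
  | zero =>
    have h1 : w = 1 := cs.length_eq_zero_iff.1 hl
    subst h1
    exact ⟨1, by rw [card_cell_one R, mul_one], fun _ => rfl, fun h2 => absurd rfl h2⟩
  | succ N ih =>
    have hw1 : w ≠ 1 := fun h1 => by
      rw [h1, cs.length_one] at hl
      exact absurd hl (Nat.succ_ne_zero N).symm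
    obtain ⟨i, hi⟩ := cs.exists_leftDescent_of_ne_one hw1
    have hi' := cs.isLeftDescent_iff.1 hi
    obtain ⟨k, hk, -, -⟩ := ih (cs.simple i * w) (by omega)
    have e : w = cs.simple i * (cs.simple i * w) := by rw [← mul_assoc, cs.simple_mul_simple_self, one_mul]
    have h1 := card_cell_mul R (i := i) (w := cs.simple i * w) (by rw [← e]; omega)
    rw [← e] at h1
    refine ⟨Nat.card (X (sr i)) * k, by rw [h1, hk]; ring, fun h2 => absurd h2 hw1, fun _ => ?_⟩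
    refine Dvd.dvd.mul_right ?_ _
    obtain ⟨u, hu, hu1⟩ := exists_ne_one R i
    have hnt : Nontrivial ↥(X (sr i)) := ⟨⟨⟨u, hu⟩, 1, fun h2 => hu1 (congrArg Subtype.val h2)⟩⟩
    obtain ⟨m, hm0, hm⟩ := (R.pgrp' (isRoot_sr cs h i)).nontrivial_iff_card.1 hnt
    rw [hm]
    exact dvd_pow_self p hm0.ne'

/-- `|G : B|` is prime to `p` -/
theorem card_eq (hp : p.Prime) (hG : GG cs h T X = ⊤) :
    ∃ k : ℕ, Nat.card Y = Nat.card (RGD.B cs h T X) * k ∧ ¬ p ∣ k := by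
  classical
  let _ := Fintype.ofFinite W
  choose k hk hk1 hkp using card_cell R hp
  have hc : ∀ y : Y, ∃ w, Cell R.nsys cs h X w y := fun y => (mem_GG R).1 (hG ▸ Subgroup.mem_top y)
  choose c hc using hc
  have h1 : Nat.card Y = ∑ w : W, Nat.card {g : Y // Cell R.nsys cs h X w g} := by
    rw [← Nat.card_sigma]
    refine Nat.card_congr ⟨fun y => ⟨c y, y, hc y⟩, fun z => z.2.1, fun y => rfl, fun z => ?_⟩
    obtain ⟨w, y, hy⟩ := z
    have e : c y = w := Cell.unique R (hc y) hy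
    subst e
    rfl
  refine ⟨∑ w : W, k w, by rw [h1, Finset.mul_sum]; exact Finset.sum_congr rfl fun w _ => hk w, ?_⟩
  rw [← Finset.add_sum_erase _ _ (Finset.mem_univ (1 : W)), hk1 1 rfl]
  intro h2
  have h3 : p ∣ ∑ x ∈ Finset.univ.erase (1 : W), k x :=
    Finset.dvd_sum fun x hx => hkp x (Finset.ne_of_mem_erase hx)
  exact hp.one_lt.ne' (Nat.dvd_one.1 ((Nat.dvd_add_left h3).1 h2))

/-- **the character** -/
theorem exists_chi (hp : p.Prime) (hG : GG cs h T X = ⊤) (hc : ∀ a ∈ T, ∀ b ∈ T, a * b = b * a)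
    {E : Type v} [AddCommGroup E] [Module ℂ E] {S S' : Y → Module.End ℂ E} (H : HRep R S) (H' : HRep R S')
    (hT : ∀ t ∈ T, S' t = S t)
    (hd : ∀ i, IsUnit (S (n i)⁻¹ * S (n i)) ∧ S' (n i)⁻¹ * S' (n i) =
      ((Nat.card (X (sr i)) : ℂ)⁻¹ * (Nat.card (X (sr i)) : ℂ)⁻¹) • Ring.inverse (S (n i)⁻¹ * S (n i)))
    {v : (↥T →* ℂˣ) → E} (V : WSys T S v)
    (hfix : ∀ (i : I) (nu : ↥T →* ℂˣ), (∀ t, nu t * nu t = 1) →
      cjl (rp_simple cs R.nsys i).mem_normalizer nu = nu → ∃ (α : ℂ) (m : ℕ), S (n i) (v nu) = α • v nu ∧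
      (1 + zet R i nu * α) * m = 1)
    [Fintype ↥(RGD.B cs h T X)] (lam : ↥T →* ℂˣ) (h2 : ∀ t, lam t * lam t = 1) :
    ∃ χ : Y → ℂ, IsIrrCharacter Y χ ∧
      ∑ b : ↥(RGD.B cs h T X), (((infl R lam b)⁻¹ : ℂˣ) : ℂ) * χ b = (Nat.card ↥(RGD.B cs h T X) : ℂ) ∧
      ¬ p ∣ charDegree χ := by
  classical
  let _ := Fintype.ofFinite W
  let _ := Fintype.ofFinite Y
  have hS'wt : ∀ t (ht : t ∈ T), S' t (v lam) = ((lam ⟨t, ht⟩ : ℂˣ) : ℂ) • v lam := fun t ht => by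
    rw [hT t ht]; exact V.wt lam t ht
  obtain ⟨φ, hφ, hφ1, hφ2⟩ := H40.OQ.exists_spherical R hG H' lam (v lam) (V.ne lam) hS'wt
    (fun w hw => V.span lam w fun t ht => by rw [← hT t ht]; exact hw t ht)
  have hr : ∀ w : W, ∃ g, Rp cs R.nsys w g := fun w => exists_rp cs R.nsys w
  choose r hr using hr
  have hsum := H40.OQ.sum_spherical R hG hφ r hr
  have hnat := H.exists_nat R hc V hfix H' hT hd
  have hterm : ∀ w : W, ∃ m : ℕ, qc R w * (φ (r w) * φ (r w)⁻¹) = m := by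
    intro w
    by_cases hin : ∀ t (ht : t ∈ T) (ht' : r w * t * (r w)⁻¹ ∈ T), lam ⟨r w * t * (r w)⁻¹, ht'⟩ = lam ⟨t, ht⟩
    · obtain ⟨m, hm⟩ := hnat w (r w) (hr w) lam h2
      refine ⟨m, ?_⟩
      have hin' : ∀ t (ht : t ∈ T) (ht' : (r w)⁻¹ * t * (r w)⁻¹⁻¹ ∈ T),
          lam ⟨(r w)⁻¹ * t * (r w)⁻¹⁻¹, ht'⟩ = lam ⟨t, ht⟩ := by
        intro t ht ht'
        have e : r w * ((r w)⁻¹ * t * (r w)⁻¹⁻¹) * (r w)⁻¹ = t := by group
        have := hin _ ht' (by rw [e]; exact ht)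
        rw [← this]
        congr 1
        exact Subtype.ext e
      rw [hφ1 w (r w) (hr w) hin, map_smul, hφ1 w⁻¹ (r w)⁻¹ (hr w).inv hin', smul_smul, smul_smul] at hm
      have h3 := smul_left_injective ℂ (V.ne lam) hm
      rw [← mul_assoc]
      exact h3
    · exact ⟨0, by rw [hφ2 w (r w) (hr w) hin, zero_mul, mul_zero, Nat.cast_zero]⟩
  choose m hm using hterm
  rw [Finset.sum_congr rfl fun w _ => hm w] at hsum
  obtain ⟨χ, hχ, hdeg, hB⟩ := exists_irr hφ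
  refine ⟨χ, hχ, hB, ?_⟩
  obtain ⟨k, hk, hpk⟩ := card_eq R hp hG
  rw [hsum, Cfsg.Agent.Blocks.Basic.irr_one_eq_charDegree hχ] at hdeg
  have h4 : charDegree χ * (Nat.card ↥(RGD.B cs h T X) * ∑ w : W, m w) = Nat.card ↥(RGD.B cs h T X) * k := by
    rw [← hk]
    exact_mod_cast hdeg
  have h5 : charDegree χ * ∑ w : W, m w = k := by
    have h6 : Nat.card ↥(RGD.B cs h T X) * (charDegree χ * ∑ w : W, m w) = Nat.card ↥(RGD.B cs h T X) * k := by
      rw [← h4]; ring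
    exact Nat.eq_of_mul_eq_mul_left Nat.card_pos h6
  intro h6
  exact hpk (h5 ▸ h6.mul_right _)

end Cfsg.Agent.H684.OQ
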