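import Cfsg.Agent.H684.OQ.Defs
import Cfsg.Agent.Nodes.OppDec

/-!
# S4884, own odd characteristic: inflation from `T` to `B` (helper684)
-/

set_option autoImplicit false
set_option linter.unusedSectionVars false

namespace Cfsg.Agent.H684.OQ

open CoxeterSystem Cfsg.Agent.ChevalleyStructure.CoxeterGeom Cfsg.Agent.Tits.Roots Cfsg.Agent.Nodes.Reps
  Cfsg.Agent.Nodes.BNOf Cfsg.Agent.Nodes.Bruhat Cfsg.Agent.Nodes.OppDec

universe u

variable {I W : Type*} {Y : Type u} [Fintype I] [DecidableEq I] [Group W] [Finite W] [Group Y]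
  {M : CoxeterMatrix I} {cs : CoxeterSystem M W} {A : I → I → ℤ} {h : IsCartan M A} {p : ℕ} {T : Subgroup Y}
  {n : I → Y} {X : (I → ℤ) → Subgroup Y} (R : RGD cs h p T n X)

include R

theorem exists_projT : ∃ π : ↥(RGD.B cs h T X) →* ↥T,
    (∀ t (ht : t ∈ T), π ⟨t, RGD.T_le_B ht⟩ = ⟨t, ht⟩) ∧
    ∀ u (hu : u ∈ RGD.Sup X (RGD.Pos cs h)), π ⟨u, RGD.U_le_B hu⟩ = 1 := by
  have key : ∀ b : ↥(RGD.B cs h T X), ∃ t : ↥T, (t : Y)⁻¹ * b ∈ RGD.Sup X (RGD.Pos cs h) := by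
    intro b
    obtain ⟨t, ht, u, hu, e⟩ := R.mem_B.1 b.2
    refine ⟨⟨t, ht⟩, ?_⟩
    rw [e]
    simpa using hu
  choose f hf using key
  have huniq : ∀ (b : ↥(RGD.B cs h T X)) (t : ↥T), (t : Y)⁻¹ * b ∈ RGD.Sup X (RGD.Pos cs h) → f b = t := by
    intro b t ht
    have h1 : (t : Y)⁻¹ * (f b : Y) ∈ RGD.Sup X (RGD.Pos cs h) ⊓ T := by
      refine Subgroup.mem_inf.2 ⟨?_, mul_mem (inv_mem t.2) (f b).2⟩
      have e : (t : Y)⁻¹ * (f b : Y) = ((t : Y)⁻¹ * b) * ((f b : Y)⁻¹ * b)⁻¹ := by group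
      rw [e]
      exact mul_mem ht (inv_mem (hf b))
    rw [U_inf_T R, Subgroup.mem_bot] at h1
    exact Subtype.ext (inv_mul_eq_one.1 h1).symm
  refine ⟨{ toFun := f, map_one' := ?_, map_mul' := ?_ }, ?_, ?_⟩
  · refine huniq 1 1 ?_
    simp
  · intro a b
    refine huniq (a * b) (f a * f b) ?_
    have hn := (Subgroup.mem_normalizer_iff.1 (R.T_le_normalizer_U (inv_mem (f b).2)) ((f a : Y)⁻¹ * a)).1 (hf a)
    have e : ((f a * f b : ↥T) : Y)⁻¹ * ((a * b : ↥(RGD.B cs h T X)) : Y) =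
        ((f b : Y)⁻¹ * ((f a : Y)⁻¹ * a) * ((f b : Y)⁻¹)⁻¹) * ((f b : Y)⁻¹ * b) := by
      push_cast
      group
    rw [e]
    exact mul_mem hn (hf b)
  · intro t ht
    refine huniq _ _ ?_
    simp
  · intro u hu
    refine huniq _ _ ?_
    simpa using hu

/-- the projection of `B` onto `T` -/
noncomputable def projT : ↥(RGD.B cs h T X) →* ↥T := (exists_projT R).choose

theorem projT_T {t : Y} (ht : t ∈ T) : projT R ⟨t, RGD.T_le_B ht⟩ = ⟨t, ht⟩ := (exists_projT R).choose_spec.1 t ht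

theorem projT_U {u : Y} (hu : u ∈ RGD.Sup X (RGD.Pos cs h)) : projT R ⟨u, RGD.U_le_B hu⟩ = 1 :=
  (exists_projT R).choose_spec.2 u hu

/-- the inflation of a character of `T` to `B` -/
noncomputable def infl (lam : ↥T →* ℂˣ) : ↥(RGD.B cs h T X) →* ℂˣ := lam.comp (projT R)

theorem infl_T (lam : ↥T →* ℂˣ) {t : Y} (ht : t ∈ T) (ht' : t ∈ RGD.B cs h T X) :
    infl R lam ⟨t, ht'⟩ = lam ⟨t, ht⟩ := congrArg lam (projT_T R ht)

theorem infl_U (lam : ↥T →* ℂˣ) {u : Y} (hu : u ∈ RGD.Sup X (RGD.Pos cs h)) (hu' : u ∈ RGD.B cs h T X) :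
    infl R lam ⟨u, hu'⟩ = 1 := (congrArg lam (projT_U R hu)).trans (map_one lam)

end Cfsg.Agent.H684.OQ
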