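import Cfsg.Agent.H684.OQ.CellCard
import Cfsg.Agent.H684.OQ.Infl

/-!
# S4884, own odd characteristic: representations of the algebra `e_U ℂG e_U` by generators and relations (helper684)

`HRep R S` : the operators `S g` (`g ∈ N`, `n_w ↦ S n_w`) satisfy the relations of the elements `ta g = e_U g e_U`.
`dualS R S` : the dual operators `(-1)^{ℓ(w)} q_w⁻¹ S(g⁻¹)⁻¹`.
-/

set_option autoImplicit false
set_option linter.unusedSectionVars false

namespace Cfsg.Agent.H684.OQ

open CoxeterSystem Cfsg.Agent.ChevalleyStructure.CoxeterGeom Cfsg.Agent.Tits.Roots Cfsg.Agent.Nodes.Reps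
  Cfsg.Agent.Nodes.BNOf Cfsg.Agent.Nodes.Bruhat Cfsg.Agent.Nodes.OppDec

universe u v

variable {I W : Type*} {Y : Type u} [Fintype I] [DecidableEq I] [Group W] [Finite W] [Group Y] [Finite Y]
  {M : CoxeterMatrix I} {cs : CoxeterSystem M W} {A : I → I → ℤ} {h : IsCartan M A} {p : ℕ} {T : Subgroup Y}
  {n : I → Y} {X : (I → ℤ) → Subgroup Y} (R : RGD cs h p T n X)
  {E : Type v} [AddCommGroup E] [Module ℂ E]

include R

open scoped Classical in
/-- the operators `S g`, `g ∈ N`, satisfy the relations of the `ta g` -/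
structure HRep (S : Y → Module.End ℂ E) : Prop where
  one : S 1 = 1
  mul : ∀ {v w : W} {g k : Y}, Rp cs R.nsys v g → Rp cs R.nsys w k →
    cs.length (v * w) = cs.length v + cs.length w → S (g * k) = S g * S k
  quad : ∀ (i : I) [Fintype (X (sr i))], S (n i) * S (n i) = (Nat.card (X (sr i)) : ℂ)⁻¹ •
    ∑ x : X (sr i), (if x = 1 then S (n i * n i) else S (tx R i x) * S (n i) * S (n i * n i))

/-- the dual operators -/
noncomputable def dualS (S : Y → Module.End ℂ E) (g : Y) : Module.End ℂ E := by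
  classical
  exact if hg : ∃ w, Rp cs R.nsys w g then
    ((-1 : ℂ) ^ cs.length hg.choose * (qc R hg.choose)⁻¹) • Ring.inverse (S g⁻¹) else 0

end Cfsg.Agent.H684.OQ
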