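import Cfsg.Agent.H684.OQ.Av
import Cfsg.Agent.H641.Gow.Rgd

/-!
# S4884, own odd characteristic: the relations of the Hecke algebra of `U` (helper684)

`eU` the idempotent of `U`, `ta g = eU g eU`.

* `ta_mul` : `ta g * ta k = ta (g k)` for representatives with adding lengths;
* `ta_sq`  : `ta n_i * ta n_i = q_i⁻¹ (ta (n_i²) + ∑_{x ≠ 1} ta t_i(x) * ta n_i * ta (n_i²))`.
-/

set_option autoImplicit false
set_option linter.unusedSectionVars false

open Cfsg

namespace Cfsg.Agent.H684.OQ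

open CoxeterSystem Cfsg.Agent.ChevalleyStructure.CoxeterGeom Cfsg.Agent.Tits.Roots Cfsg.Agent.Tits.Core
  Cfsg.Agent.Tits.Exchange Cfsg.Agent.Nodes.Reps Cfsg.Agent.Nodes.BNOf Cfsg.Agent.Nodes.StabComb
  Cfsg.Agent.Nodes.Bruhat Cfsg.Agent.Nodes.OppDec Cfsg.Agent.Nodes.LeviDec

universe u

variable {I W : Type*} {Y : Type u} [Fintype I] [DecidableEq I] [Group W] [Finite W] [Group Y] [Finite Y]
  {M : CoxeterMatrix I} {cs : CoxeterSystem M W} {A : I → I → ℤ} {h : IsCartan M A} {p : ℕ} {T : Subgroup Y}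
  {n : I → Y} {X : (I → ℤ) → Subgroup Y}

/-- the positive unipotent group -/
abbrev UU (cs : CoxeterSystem M W) (h : IsCartan M A) (X : (I → ℤ) → Subgroup Y) : Subgroup Y :=
  RGD.Sup X (RGD.Pos cs h)

/-- the idempotent of `U` -/
noncomputable def eU (cs : CoxeterSystem M W) (h : IsCartan M A) (X : (I → ℤ) → Subgroup Y) : Al Y :=
  av (P := UU cs h X) 1

/-- `eU g eU` -/
noncomputable def ta (cs : CoxeterSystem M W) (h : IsCartan M A) (X : (I → ℤ) → Subgroup Y) (g : Y) : Al Y :=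
  eU cs h X * dl g * eU cs h X

theorem dl_mul_eU {u : Y} (hu : u ∈ UU cs h X) : dl u * eU cs h X = eU cs h X := by
  have := dl_mul_av (1 : UU cs h X →* ℂˣ) ⟨u, hu⟩
  rwa [MonoidHom.one_apply, Units.val_one, one_smul] at this

theorem eU_mul_dl {u : Y} (hu : u ∈ UU cs h X) : eU cs h X * dl u = eU cs h X := by
  have := av_mul_dl (1 : UU cs h X →* ℂˣ) ⟨u, hu⟩
  rwa [MonoidHom.one_apply, Units.val_one, one_smul] at this

theorem eU_mul_eU : eU cs h X * eU cs h X = eU cs h X := av_mul_av _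

theorem avgU_eq {a b c : Al Y} (hc : ∀ u ∈ UU cs h X, a * dl u * b = c) : a * eU cs h X * b = c :=
  avg_eq _ fun u => by
    rw [MonoidHom.one_apply, inv_one, Units.val_one, one_smul]
    exact hc u u.2

theorem dl_comm_eU {g : Y} (hg : g ∈ Subgroup.normalizer (UU cs h X : Set Y)) :
    dl g * eU cs h X = eU cs h X * dl g :=
  dl_comm_av _ hg fun _ _ => rfl

theorem ta_one : ta cs h X 1 = eU cs h X := by
  unfold ta
  rw [dl_one, mul_one, eU_mul_eU]

theorem eU_mul_ta (g : Y) : eU cs h X * ta cs h X g = ta cs h X g := by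
  unfold ta
  rw [← mul_assoc, ← mul_assoc, eU_mul_eU]

theorem ta_mul_eU (g : Y) : ta cs h X g * eU cs h X = ta cs h X g := by
  unfold ta
  rw [mul_assoc, eU_mul_eU]

theorem ta_u_mul {u : Y} (hu : u ∈ UU cs h X) (g : Y) : ta cs h X (u * g) = ta cs h X g := by
  unfold ta
  rw [dl_mul, ← mul_assoc, eU_mul_dl hu]

theorem ta_mul_u {u : Y} (hu : u ∈ UU cs h X) (g : Y) : ta cs h X (g * u) = ta cs h X g := by
  unfold ta
  rw [dl_mul, mul_assoc, mul_assoc, dl_mul_eU hu, ← mul_assoc]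

variable (R : RGD cs h p T n X)

include R

theorem dl_t_comm_eU {t : Y} (ht : t ∈ T) : dl t * eU cs h X = eU cs h X * dl t :=
  dl_comm_eU (R.T_le_normalizer_U ht)

theorem ta_t {t : Y} (ht : t ∈ T) : ta cs h X t = dl t * eU cs h X := by
  unfold ta
  rw [← dl_t_comm_eU R ht, mul_assoc, eU_mul_eU]

theorem ta_t_mul {t : Y} (ht : t ∈ T) (g : Y) : ta cs h X (t * g) = ta cs h X t * ta cs h X g := by
  rw [ta_t R ht]
  unfold ta
  rw [dl_mul, ← mul_assoc, ← dl_t_comm_eU R ht]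
  simp only [mul_assoc]
  rw [← mul_assoc (eU cs h X) (eU cs h X), eU_mul_eU]

theorem ta_mul_t {t : Y} (ht : t ∈ T) (g : Y) : ta cs h X (g * t) = ta cs h X g * ta cs h X t := by
  rw [ta_t R ht]
  unfold ta
  rw [dl_mul]
  simp only [mul_assoc]
  rw [dl_t_comm_eU R ht, ← mul_assoc (eU cs h X) (eU cs h X), eU_mul_eU]

/-- `U = V_i X_i` -/
theorem exists_vx (i : I) {u : Y} (hu : u ∈ UU cs h X) :
    ∃ v ∈ RGD.Sup X (RGD.PosNe cs h i), ∃ x ∈ X (sr i), u = v * x := by
  have h1 : u ∈ ((RGD.Sup X (RGD.PosNe cs h i) ⊔ X (sr i) : Subgroup Y) : Set Y) := by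
    rw [sup_comm, ← R.Upos_eq i]
    exact hu
  rw [Subgroup.coe_mul_of_right_le_normalizer_left _ _ (R.X_le_normalizer_V i), Set.mem_mul] at h1
  obtain ⟨v, hv, x, hx, e⟩ := h1
  exact ⟨v, hv, x, hx, e.symm⟩

omit R [Finite W] [Finite Y] in
theorem V_le_U (i : I) : RGD.Sup X (RGD.PosNe cs h i) ≤ UU cs h X := RGD.Sup_mono fun _ hz => ⟨hz.1, hz.2.1⟩

omit R [Finite W] [Finite Y] in
theorem X_le_U (i : I) : X (sr i) ≤ UU cs h X := RGD.le_Sup ⟨isRoot_sr cs h i, sr_nonneg i⟩

theorem n_conj_V (i : I) {v : Y} (hv : v ∈ RGD.Sup X (RGD.PosNe cs h i)) :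
    n i * v * (n i)⁻¹ ∈ RGD.Sup X (RGD.PosNe cs h i) := by
  rw [← R.cj_n_V i]
  exact conj_mem_cj.2 hv

/-- `e n_i e g e = e n_i g e` if `ℓ(s_i w) > ℓ(w)` -/
theorem ta_n_mul {i : I} {w : W} {g : Y} (hg : Rp cs R.nsys w g) (hl : cs.length w < cs.length (cs.simple i * w)) :
    ta cs h X (n i) * ta cs h X g = ta cs h X (n i * g) := by
  have h1 : 0 ≤ rep cs h w⁻¹ (sr i) := by
    have h2 := nonneg_of_lt cs h w⁻¹ i (by
      rw [← cs.length_inv (w⁻¹ * cs.simple i), mul_inv_rev, inv_inv, cs.inv_simple, cs.length_inv]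
      exact hl)
    exact h2
  have h3 : ta cs h X (n i) * ta cs h X g = eU cs h X * dl (n i) * eU cs h X * (dl g * eU cs h X) := by
    unfold ta
    simp only [mul_assoc]
    rw [← mul_assoc (eU cs h X) (eU cs h X), eU_mul_eU]
  rw [h3]
  refine avgU_eq fun u hu => ?_
  obtain ⟨v, hv, x, hx, rfl⟩ := exists_vx R i hu
  have h4 : n i * v * (n i)⁻¹ ∈ UU cs h X := V_le_U i (n_conj_V R i hv)
  have h5 : g⁻¹ * x * g ∈ UU cs h X := RGD.le_Sup (S := RGD.Pos cs h) ⟨(isRoot_sr cs h i).act _, h1⟩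
    (R.conj_mem' hg (isRoot_sr cs h i) hx)
  have e1 : dl (n i) * dl (v * x) * dl g = dl (n i * v * (n i)⁻¹) * dl (n i * g) * dl (g⁻¹ * x * g) := by
    rw [← dl_mul, ← dl_mul, ← dl_mul, ← dl_mul]
    congr 1
    group
  calc eU cs h X * dl (n i) * dl (v * x) * (dl g * eU cs h X)
      = eU cs h X * (dl (n i) * dl (v * x) * dl g) * eU cs h X := by simp only [mul_assoc]
    _ = (eU cs h X * dl (n i * v * (n i)⁻¹)) * dl (n i * g) * (dl (g⁻¹ * x * g) * eU cs h X) := by
        rw [e1]; simp only [mul_assoc]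
    _ = ta cs h X (n i * g) := by rw [eU_mul_dl h4, dl_mul_eU h5]; rfl

/-- **`ta g * ta k = ta (g k)` if the lengths add.** -/
theorem ta_mul {v : W} : ∀ {w : W} {g k : Y}, Rp cs R.nsys v g → Rp cs R.nsys w k →
    cs.length (v * w) = cs.length v + cs.length w → ta cs h X g * ta cs h X k = ta cs h X (g * k) := by
  induction hn : cs.length v generalizing v with
  | zero =>
    intro w g k hg hk _
    have h1 : v = 1 := cs.length_eq_zero_iff.1 hn
    subst h1
    rw [ta_t_mul R hg.mem_of_one]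
  | succ N ih =>
    intro w g k hg hk hlen
    obtain ⟨i, hi⟩ := cs.exists_leftDescent_of_ne_one (w := v) (fun h1 => by
      rw [h1, cs.length_one] at hn
      exact absurd hn (Nat.succ_ne_zero N).symm)
    have hi' := cs.isLeftDescent_iff.1 hi
    have hv1 : Rp cs R.nsys (cs.simple i * v) ((n i)⁻¹ * g) := by
      have := (rp_simple cs R.nsys i).inv.mul hg
      rwa [cs.inv_simple] at this
    have hl1 : cs.length (cs.simple i * v) = N := by omega
    have hvw : cs.length (cs.simple i * v * w) = cs.length (cs.simple i * v) + cs.length w := by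
      have h2 := cs.length_mul_le (cs.simple i * v) w
      have h3 := cs.length_mul_le (cs.simple i) (cs.simple i * v * w)
      rw [← mul_assoc, ← mul_assoc, cs.simple_mul_simple_self, one_mul, cs.length_simple] at h3
      omega
    have e0 : cs.simple i * (cs.simple i * v) = v := by
      rw [← mul_assoc, cs.simple_mul_simple_self, one_mul]
    have e1 : ta cs h X g = ta cs h X (n i) * ta cs h X ((n i)⁻¹ * g) := by
      rw [ta_n_mul R hv1 (by rw [e0]; omega)]
      congr 1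
      group
    have e2 := ih hl1 hv1 hk (by rw [hvw, hl1])
    have e3 : ta cs h X (n i) * ta cs h X ((n i)⁻¹ * g * k) = ta cs h X (g * k) := by
      rw [ta_n_mul R (hv1.mul hk) (by
        have e4 : cs.simple i * (cs.simple i * v * w) = v * w := by
          rw [← mul_assoc, ← mul_assoc, cs.simple_mul_simple_self, one_mul]
        rw [e4]; omega)]
      congr 1
      group
    rw [e1, mul_assoc, e2, e3]

/-! ### the quadratic relation -/

/-- an element of `X_i ∩ V_i` is trivial -/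
theorem eq_one_of_mem_V {i : I} {x : Y} (hx : x ∈ X (sr i)) (hv : x ∈ RGD.Sup X (RGD.PosNe cs h i)) : x = 1 :=
  eq_one_of_conj_mem_B R hx (rp_simple cs R.nsys i)
    (RGD.U_le_B (V_le_U i (n_conj_V R i hv)))

/-- the torus element of `n_i x n_i⁻¹` -/
theorem exists_tx (i : I) {x : Y} (hx : x ∈ X (sr i)) (hx1 : x ≠ 1) :
    ∃ t ∈ T, ∃ a ∈ X (sr i), ∃ b ∈ X (sr i), n i * x * (n i)⁻¹ = a * t * n i * b := by
  have h1 : n i * x * (n i)⁻¹ ∈ X (-sr i) := by
    have := R.conj_mem (rp_simple cs R.nsys i) (isRoot_sr cs h i) hx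
    rwa [rep_simple_sr] at this
  have h2 : n i * x * (n i)⁻¹ ≠ 1 := by
    intro h3
    apply hx1
    have h4 : x = (n i)⁻¹ * (n i * x * (n i)⁻¹) * n i := by group
    rw [h4, h3]; group
  obtain ⟨a, ha, t, ht, b, hb, e⟩ := R.rk1 i _ h1 h2
  exact ⟨t, ht, a, ha, b, hb, e⟩

open Classical in
/-- `t_i(x)` -/
noncomputable def tx (i : I) (x : Y) : Y :=
  if hx : x ∈ X (sr i) ∧ x ≠ 1 then (exists_tx R i hx.1 hx.2).choose else 1

theorem tx_spec {i : I} {x : Y} (hx : x ∈ X (sr i)) (hx1 : x ≠ 1) :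
    tx R i x ∈ T ∧ ∃ a ∈ X (sr i), ∃ b ∈ X (sr i), n i * x * (n i)⁻¹ = a * tx R i x * n i * b := by
  unfold tx
  rw [dif_pos ⟨hx, hx1⟩]
  exact (exists_tx R i hx hx1).choose_spec

theorem tx_mem (i : I) (x : Y) : tx R i x ∈ T := by
  by_cases hx : x ∈ X (sr i) ∧ x ≠ 1
  · exact (tx_spec R hx.1 hx.2).1
  · unfold tx
    rw [dif_neg hx]
    exact one_mem _

/-- the idempotent of `X_i` -/
noncomputable def eX (X : (I → ℤ) → Subgroup Y) (i : I) : Al Y := av (P := X (sr i)) 1

omit R in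
theorem eU_mul_eX (i : I) : eU cs h X * eX X i = eU cs h X := by
  have := avg_eq (P := X (sr i)) (1 : X (sr i) →* ℂˣ) (a := eU cs h X) (b := 1) (c := eU cs h X) fun u => by
    rw [MonoidHom.one_apply, inv_one, Units.val_one, one_smul, mul_one, eU_mul_dl (X_le_U i u.2)]
  rwa [mul_one] at this

/-- `e n_i e b = e n_i e_X b` -/
theorem eU_n_eU (i : I) (b : Al Y) :
    eU cs h X * dl (n i) * eU cs h X * b = eU cs h X * dl (n i) * eX X i * b := by
  have h1 : eU cs h X * dl (n i) * eU cs h X * (eX X i * b) = eU cs h X * dl (n i) * eX X i * b := by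
    refine avgU_eq fun u hu => ?_
    obtain ⟨v, hv, x, hx, rfl⟩ := exists_vx R i hu
    have h4 : n i * v * (n i)⁻¹ ∈ UU cs h X := V_le_U i (n_conj_V R i hv)
    have h5 : dl x * eX X i = eX X i := by
      have := dl_mul_av (P := X (sr i)) (1 : X (sr i) →* ℂˣ) ⟨x, hx⟩
      rwa [MonoidHom.one_apply, Units.val_one, one_smul] at this
    have e1 : dl (n i) * dl (v * x) = dl (n i * v * (n i)⁻¹) * dl (n i) * dl x := by
      rw [← dl_mul, ← dl_mul, ← dl_mul]
      congr 1
      group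
    calc eU cs h X * dl (n i) * dl (v * x) * (eX X i * b)
        = eU cs h X * (dl (n i) * dl (v * x)) * (eX X i * b) := by simp only [mul_assoc]
      _ = (eU cs h X * dl (n i * v * (n i)⁻¹)) * dl (n i) * ((dl x * eX X i) * b) := by
          rw [e1]; simp only [mul_assoc]
      _ = eU cs h X * dl (n i) * eX X i * b := by rw [eU_mul_dl h4, h5]; simp only [mul_assoc]
  rw [← h1]
  simp only [mul_assoc]
  rw [← mul_assoc (eU cs h X) (eX X i) b, eU_mul_eX]

open Classical in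
/-- **The quadratic relation.** -/
theorem ta_sq (i : I) [Fintype (X (sr i))] : ta cs h X (n i) * ta cs h X (n i) =
    (Nat.card (X (sr i)) : ℂ)⁻¹ • ∑ x : X (sr i), (if x = 1 then ta cs h X (n i * n i) else
      ta cs h X (tx R i x) * ta cs h X (n i) * ta cs h X (n i * n i)) := by
  have h1 : ta cs h X (n i) * ta cs h X (n i) =
      eU cs h X * dl (n i) * eU cs h X * (dl (n i) * eU cs h X) := by
    unfold ta
    simp only [mul_assoc]
    rw [← mul_assoc (eU cs h X) (eU cs h X), eU_mul_eU]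
  rw [h1, eU_n_eU R, eX, av_def, mul_smul_comm, smul_mul_assoc, Finset.mul_sum, Finset.sum_mul]
  congr 1
  refine Finset.sum_congr rfl fun x _ => ?_
  rw [MonoidHom.one_apply, inv_one, Units.val_one, one_smul]
  split_ifs with hx
  · subst hx
    rw [Subgroup.coe_one, dl_one, mul_one]
    unfold ta
    rw [dl_mul]
    simp only [mul_assoc]
  · have hx1 : (x : Y) ≠ 1 := fun h2 => hx (Subtype.ext h2)
    obtain ⟨ht, a, ha, b, hb, e⟩ := tx_spec R x.2 hx1
    have hz : n i * n i ∈ T := R.sq_mem_T i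
    have hb' : (n i * n i)⁻¹ * b * (n i * n i) ∈ UU cs h X := by
      have h2 := (Subgroup.mem_normalizer_iff.1 (inv_mem (R.T_le_normalizer_U hz)) b).1 (X_le_U i hb)
      rwa [inv_inv] at h2
    have e2 : n i * x * n i = a * (tx R i x * n i * (n i * n i)) * ((n i * n i)⁻¹ * b * (n i * n i)) := by
      have e3 : n i * x * n i = (n i * x * (n i)⁻¹) * (n i * n i) := by group
      rw [e3, e]
      group
    rw [← ta_t_mul R ht, ← ta_mul_t R hz, ← ta_mul_u hb', ← ta_u_mul (X_le_U i ha)]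
    have e4 : a * (tx R i x * n i * (n i * n i) * ((n i * n i)⁻¹ * b * (n i * n i))) = n i * x * n i := by
      rw [e2, mul_assoc a]
    rw [e4]
    unfold ta
    rw [dl_mul, dl_mul]
    simp only [mul_assoc]

end Cfsg.Agent.H684.OQ
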