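import Cfsg.Agent.H684.OQ.Deg
import Cfsg.Agent.H40.OQ.Dual
import Cfsg.Agent.H381.OQ.Half
import Cfsg.Agent.H690.OwnD.Row

/-!
# S4884, own odd characteristic: the theorem (helper684)

* `half_of_in` : a nontrivial character of degree prime to `2 p` in the principal 2-block;
* `row_of_hasIn`, `rowB_of_hasIn` : the rows.
-/

set_option autoImplicit false
set_option linter.unusedSectionVars false

open Cfsg

namespace Cfsg.Agent.H684.OQ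

open CoxeterSystem Cfsg.Agent.ChevalleyStructure.CoxeterGeom Cfsg.Agent.Tits.Roots Cfsg.Agent.Tits.Core
  Cfsg.Agent.Tits.Exchange Cfsg.Agent.Nodes.Reps Cfsg.Agent.Nodes.BNOf Cfsg.Agent.Nodes.StabComb
  Cfsg.Agent.Nodes.Bruhat Cfsg.Agent.Nodes.OppDec Cfsg.Agent.Nodes.LeviDec

universe u v

variable {I W : Type*} {Y : Type u} [Fintype I] [DecidableEq I] [Group W] [Finite W] [Group Y] [Finite Y]
  {M : CoxeterMatrix I} {cs : CoxeterSystem M W} {A : I → I → ℤ} {h : IsCartan M A} {p : ℕ} {T : Subgroup Y}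
  {n : I → Y} {X : (I → ℤ) → Subgroup Y}

/-- **the theorem**, from the factors of the nodes -/
theorem half_of_factor (hI : InB p cs h T n X) (hp : p.Prime) (hp2 : p ≠ 2) [Nonempty I]
    (hfac : ∀ (i : I) (psi : ↥(UU cs h X) →* ℂˣ), Nondeg psi → ∀ (n₀ : Y) (hn₀ : Rp cs hI.rgd.nsys (w0 cs) n₀)
      (nu : ↥T →* ℂˣ), (∀ s, nu s * nu s = 1) → cjl (rp_simple cs hI.rgd.nsys i).mem_normalizer nu = nu →
      ∃ m : ℕ, (1 + zet hI.rgd i nu * alf hI.rgd psi hn₀ i nu) * (m : ℂ) = 1) {M2 : Ideal AlgInt}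
    (hM : IsPModular 2 M2) :
    ∃ θ : IrrCharacter Y, θ ∈ principalBlock M2 Y ∧ (θ : Y → ℂ) ≠ (fun _ => (1 : ℂ)) ∧
      ¬ 2 ∣ charDegree (θ : Y → ℂ) ∧ ¬ p ∣ charDegree (θ : Y → ℂ) := by
  classical
  have : Fact p.Prime := ⟨hp⟩
  let _ : Fintype ↥(RGD.B cs h T X) := Fintype.ofFinite _
  have R := hI.rgd
  obtain ⟨n₀, hn₀⟩ := exists_rp cs R.nsys (w0 cs)
  obtain ⟨i₀⟩ := ‹Nonempty I›
  obtain ⟨f, hf⟩ : ∃ f : ↥(X (sr i₀)) →* ℂˣ, f ≠ 1 := by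
    obtain ⟨u, hu, hu1⟩ := exists_ne_one R i₀
    have : Nontrivial ↥(X (sr i₀)) := ⟨⟨⟨u, hu⟩, 1, fun h2 => hu1 (congrArg Subtype.val h2)⟩⟩
    exact exists_lin (R.pgrp' (isRoot_sr cs h i₀))
  obtain ⟨psi, hpsi, -⟩ := exists_psi R i₀ f hf
  have : Nonempty I := ⟨i₀⟩
  obtain ⟨H', hT, -, hd⟩ := H40.OQ.dual R hI.comm (hrep_SE R psi)
  refine H381.OQ.half_of_deg hI hp hp2 (fun lam h2 => ?_) hM
  refine exists_chi R hp hI.top hI.comm (hrep_SE R psi) H' hT hd (v := fun nu => wE R psi nu n₀)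
    ⟨fun nu t ht => SE_wE R psi nu n₀ ht, fun nu a ha => SE_span R hI.top hpsi nu hn₀ a ha,
      fun nu => wE_ne R psi nu hn₀⟩ (fun i nu h2 hinv => ?_) lam h2
  obtain ⟨m, hm⟩ := hfac i psi hpsi n₀ hn₀ nu h2 hinv
  exact ⟨alf R psi hn₀ i nu, m, SE_n R hpsi hn₀ i nu (cjl_fix R hinv), hm⟩

theorem half_of_in (hI : In p cs h T n X) (hp : p.Prime) (hp2 : p ≠ 2) [Nonempty I] {M2 : Ideal AlgInt}
    (hM : IsPModular 2 M2) :
    ∃ θ : IrrCharacter Y, θ ∈ principalBlock M2 Y ∧ (θ : Y → ℂ) ≠ (fun _ => (1 : ℂ)) ∧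
      ¬ 2 ∣ charDegree (θ : Y → ℂ) ∧ ¬ p ∣ charDegree (θ : Y → ℂ) :=
  half_of_factor hI.inB hp hp2 (fun i _ hpsi _ hn₀ _ _ hinv => sl_alf hI.rgd (hI.node i) hpsi hn₀ hinv) hM

theorem half_of_hasIn {G : Type u} [Group G] [Finite G] (hI : HasIn p M G) (hp : p.Prime) (hp2 : p ≠ 2) [Nonempty I]
    {M2 : Ideal AlgInt} (hM : IsPModular 2 M2) :
    ∃ θ : IrrCharacter G, θ ∈ principalBlock M2 G ∧ (θ : G → ℂ) ≠ (fun _ => (1 : ℂ)) ∧
      ¬ 2 ∣ charDegree (θ : G → ℂ) ∧ ¬ p ∣ charDegree (θ : G → ℂ) := by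
  obtain ⟨A, h, T, n, X, hf, hI⟩ := hI
  exact half_of_in hI hp hp2 hM

/-- **the row in own odd characteristic** -/
theorem row_of_hasIn {q : ℕ} [hq : Fact q.Prime] (hq2 : q ≠ 2) [Nonempty I] {S : Type u} [Group S] [Finite S]
    (hL : IsLieTypeChar q S) (hI : HasIn q M S) : H706.PB.Row q S :=
  H690.OwnD.row_lieq hL fun _ hM => half_of_hasIn hI hq.out hq2 hM

theorem rowB_of_hasIn {q : ℕ} [hq : Fact q.Prime] (hq2 : q ≠ 2) [Nonempty I] {S : Type u} [Group S] [Finite S]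
    (hL : IsLieTypeChar q S) (hI : HasIn q M S) : H706.PB.RowB q S := by
  intro M2 Mq hM2 hMq
  obtain ⟨θ, h1, h2, h3, h4⟩ := half_of_hasIn hI hq.out hq2 hM2
  exact ⟨θ, h1, H690.OwnD.mem_own hL hMq h4, h2, h3, h4⟩

end Cfsg.Agent.H684.OQ
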