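import Cfsg.Agent.H684.OQ.MainB
import Cfsg.Agent.H69.OQ.Lieq

/-!
# S4884: the row of own odd characteristic (helper684)

`lieq` : the field `lieq` of `H706.PB.Rows`.
-/

set_option autoImplicit false

open Cfsg

namespace Cfsg.Agent.H684.OQ

open Cfsg.Agent.H706.PB

/-- **the row of own odd characteristic** -/
theorem lieq {q : ℕ} [Fact q.Prime] (hq2 : q ≠ 2) : RowFor q (fun X _ => IsLieTypeChar q X) :=
  H69.OQ.lieq_of hq2 fun m hm G _ _ hL hI => by
    have : Nonempty (Fin m) := ⟨⟨0, hm⟩⟩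
    exact row_of_hasInB hq2 hL hI

end Cfsg.Agent.H684.OQ
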