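import Cfsg.Agent.H684.OQ.Main
import Cfsg.Agent.H381.OQ.SUAlf

/-!
# S4884, own odd characteristic: the theorem for the inputs with nodes of type `SU_3` (helper684)
-/

set_option autoImplicit false
set_option linter.unusedSectionVars false

open Cfsg

namespace Cfsg.Agent.H684.OQ

open CoxeterSystem Cfsg.Agent.ChevalleyStructure.CoxeterGeom Cfsg.Agent.Tits.Roots Cfsg.Agent.Tits.Core
  Cfsg.Agent.Tits.Exchange Cfsg.Agent.Nodes.Reps Cfsg.Agent.Nodes.BNOf Cfsg.Agent.Nodes.StabComb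
  Cfsg.Agent.Nodes.Bruhat Cfsg.Agent.Nodes.OppDec Cfsg.Agent.Nodes.LeviDec

universe u v

variable {I W : Type*} {Y : Type u} [Fintype I] [DecidableEq I] [Group W] [Finite W] [Group Y] [Finite Y]
  {M : CoxeterMatrix I} {cs : CoxeterSystem M W} {A : I → I → ℤ} {h : IsCartan M A} {p : ℕ} {T : Subgroup Y}
  {n : I → Y} {X : (I → ℤ) → Subgroup Y}

/-- **the theorem** -/
theorem half_of_inB (hI : InB p cs h T n X) (hp : p.Prime) (hp2 : p ≠ 2) [Nonempty I] {M2 : Ideal AlgInt}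
    (hM : IsPModular 2 M2) :
    ∃ θ : IrrCharacter Y, θ ∈ principalBlock M2 Y ∧ (θ : Y → ℂ) ≠ (fun _ => (1 : ℂ)) ∧
      ¬ 2 ∣ charDegree (θ : Y → ℂ) ∧ ¬ p ∣ charDegree (θ : Y → ℂ) := by
  have : Fact p.Prime := ⟨hp⟩
  refine half_of_factor hI hp hp2 (fun i _ hpsi _ hn₀ _ h2 hinv => ?_) hM
  rcases hI.node i with h3 | h3
  · exact sl_alf hI.rgd h3 hpsi hn₀ hinv
  · exact H381.OQ.su_alf hI.rgd h3 hpsi hn₀ h2 hinv

theorem half_of_hasInB {G : Type u} [Group G] [Finite G] (hI : HasInB p M G) (hp : p.Prime) (hp2 : p ≠ 2) [Nonempty I]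
    {M2 : Ideal AlgInt} (hM : IsPModular 2 M2) :
    ∃ θ : IrrCharacter G, θ ∈ principalBlock M2 G ∧ (θ : G → ℂ) ≠ (fun _ => (1 : ℂ)) ∧
      ¬ 2 ∣ charDegree (θ : G → ℂ) ∧ ¬ p ∣ charDegree (θ : G → ℂ) := by
  obtain ⟨A, h, T, n, X, hf, hI⟩ := hI
  exact half_of_inB hI hp hp2 hM

/-- **the row in own odd characteristic** -/
theorem row_of_hasInB {q : ℕ} [hq : Fact q.Prime] (hq2 : q ≠ 2) [Nonempty I] {S : Type u} [Group S] [Finite S]
    (hL : IsLieTypeChar q S) (hI : HasInB q M S) : H706.PB.Row q S :=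
  H690.OwnD.row_lieq hL fun _ hM => half_of_hasInB hI hq.out hq2 hM

theorem rowB_of_hasInB {q : ℕ} [hq : Fact q.Prime] (hq2 : q ≠ 2) [Nonempty I] {S : Type u} [Group S] [Finite S]
    (hL : IsLieTypeChar q S) (hI : HasInB q M S) : H706.PB.RowB q S := by
  intro M2 Mq hM2 hMq
  obtain ⟨θ, h1, h2, h3, h4⟩ := half_of_hasInB hI hq.out hq2 hM2
  exact ⟨θ, h1, H690.OwnD.mem_own hL hMq h4, h2, h3, h4⟩

end Cfsg.Agent.H684.OQ
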