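import Cfsg.Agent.H684.OQ.Psi

/-!
# S4884, own odd characteristic: the Gelfand-Graev module of `e_U ℂG e_U` (helper684)

`EE psi` : the elements `a` of the group algebra with `e_U a = a = a ε`; `SE psi g` : the left multiplication by `ta g`.
-/

set_option autoImplicit false
set_option linter.unusedSectionVars false

open Cfsg

namespace Cfsg.Agent.H684.OQ

open CoxeterSystem Cfsg.Agent.ChevalleyStructure.CoxeterGeom Cfsg.Agent.Tits.Roots Cfsg.Agent.Tits.Core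
  Cfsg.Agent.Tits.Exchange Cfsg.Agent.Nodes.Reps Cfsg.Agent.Nodes.BNOf Cfsg.Agent.Nodes.StabComb
  Cfsg.Agent.Nodes.Bruhat Cfsg.Agent.Nodes.OppDec Cfsg.Agent.Nodes.LeviDec

universe u

variable {I W : Type*} {Y : Type u} [Fintype I] [DecidableEq I] [Group W] [Finite W] [Group Y] [Finite Y]
  {M : CoxeterMatrix I} {cs : CoxeterSystem M W} {A : I → I → ℤ} {h : IsCartan M A} {p : ℕ} {T : Subgroup Y}
  {n : I → Y} {X : (I → ℤ) → Subgroup Y}

/-- the module -/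
def EE (psi : ↥(UU cs h X) →* ℂˣ) : Submodule ℂ (Al Y) where
  carrier := {a | eU cs h X * a = a ∧ a * av psi = a}
  add_mem' := by
    rintro a b ⟨h1, h2⟩ ⟨h3, h4⟩
    exact ⟨by rw [mul_add, h1, h3], by rw [add_mul, h2, h4]⟩
  zero_mem' := ⟨mul_zero _, zero_mul _⟩
  smul_mem' := by
    rintro c a ⟨h1, h2⟩
    exact ⟨by rw [mul_smul_comm, h1], by rw [smul_mul_assoc, h2]⟩

theorem mem_EE {psi : ↥(UU cs h X) →* ℂˣ} {a : Al Y} : a ∈ EE psi ↔ eU cs h X * a = a ∧ a * av psi = a := Iff.rfl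

instance (psi : ↥(UU cs h X) →* ℂˣ) : FiniteDimensional ℂ (EE psi) := by
  have : Module.Finite ℂ (Al Y) := Module.Finite.equiv (MonoidAlgebra.coeffLinearEquiv ℂ).symm
  infer_instance

/-- the operators -/
noncomputable def SE (psi : ↥(UU cs h X) →* ℂˣ) (g : Y) : Module.End ℂ (EE psi) :=
  (LinearMap.mulLeft ℂ (ta cs h X g)).restrict fun a ha => by
    rw [LinearMap.mulLeft_apply]
    exact ⟨by rw [← mul_assoc, eU_mul_ta], by rw [mul_assoc, (mem_EE.1 ha).2]⟩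

theorem SE_coe (psi : ↥(UU cs h X) →* ℂˣ) (g : Y) (a : EE psi) : ((SE psi g a : EE psi) : Al Y) = ta cs h X g * a := rfl

variable (R : RGD cs h p T n X)

include R

theorem hrep_SE (psi : ↥(UU cs h X) →* ℂˣ) : HRep R (SE psi) where
  one := by
    ext1 a
    apply Subtype.ext
    rw [SE_coe, ta_one, Module.End.one_apply]
    exact (mem_EE.1 a.2).1
  mul := by
    intro v w g k hg hk hl
    ext1 a
    apply Subtype.ext
    rw [Module.End.mul_apply, SE_coe, SE_coe, SE_coe, ← mul_assoc, ta_mul R hg hk hl]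
  quad := by
    classical
    intro i _
    ext1 a
    apply Subtype.ext
    rw [Module.End.mul_apply, SE_coe, SE_coe, ← mul_assoc, ta_sq R i, LinearMap.smul_apply, Submodule.coe_smul,
      smul_mul_assoc, Finset.sum_mul, LinearMap.sum_apply, Submodule.coe_sum]
    congr 1
    refine Finset.sum_congr rfl fun x _ => ?_
    split_ifs with hx
    · rfl
    · rw [Module.End.mul_apply, Module.End.mul_apply, SE_coe, SE_coe, SE_coe]
      simp only [mul_assoc]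

/-- the Whittaker vector in the module -/
noncomputable def wE (psi : ↥(UU cs h X) →* ℂˣ) (nu : ↥T →* ℂˣ) (n₀ : Y) : EE psi :=
  ⟨wv R psi nu n₀, eU_mul_wv R nu n₀, wv_mul_av R nu n₀⟩

theorem wE_ne (psi : ↥(UU cs h X) →* ℂˣ) (nu : ↥T →* ℂˣ) {n₀ : Y} (hn₀ : Rp cs R.nsys (w0 cs) n₀) :
    wE R psi nu n₀ ≠ 0 := fun h0 => wv_ne R psi nu hn₀ (congrArg Subtype.val h0)

theorem SE_t (psi : ↥(UU cs h X) →* ℂˣ) {t : Y} (ht : t ∈ T) (a : EE psi) : ((SE psi t a : EE psi) : Al Y) = dl t * a := by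
  rw [SE_coe, ta_t R ht, mul_assoc, (mem_EE.1 a.2).1]

theorem SE_wE (psi : ↥(UU cs h X) →* ℂˣ) (nu : ↥T →* ℂˣ) (n₀ : Y) {t : Y} (ht : t ∈ T) :
    SE psi t (wE R psi nu n₀) = ((nu ⟨t, ht⟩ : ℂˣ) : ℂ) • wE R psi nu n₀ := by
  apply Subtype.ext
  rw [SE_t R psi ht, Submodule.coe_smul]
  exact t_mul_wv R nu n₀ ht

/-- **the weight spaces are one-dimensional** -/
theorem SE_span (hG : GG cs h T X = ⊤) {psi : ↥(UU cs h X) →* ℂˣ} (hpsi : Nondeg psi) (nu : ↥T →* ℂˣ) {n₀ : Y}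
    (hn₀ : Rp cs R.nsys (w0 cs) n₀) (a : EE psi)
    (ha : ∀ t (ht : t ∈ T), SE psi t a = ((nu ⟨t, ht⟩ : ℂˣ) : ℂ) • a) : ∃ c : ℂ, a = c • wE R psi nu n₀ := by
  have h1 : eB R nu * (a : Al Y) = a := by
    refine eB_mul_eq R nu (mem_EE.1 a.2).1 fun t ht => ?_
    rw [← SE_t R psi ht a, ha t ht, Submodule.coe_smul]
  obtain ⟨c, hc⟩ := eB_span R hG hpsi nu hn₀ (a : Al Y)
  refine ⟨c, Subtype.ext ?_⟩
  rw [Submodule.coe_smul]
  calc (a : Al Y) = eB R nu * a * av psi := by rw [h1, (mem_EE.1 a.2).2]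
    _ = _ := hc

/-- the eigenvalue of `n_i` -/
theorem SE_n {psi : ↥(UU cs h X) →* ℂˣ} (hpsi : Nondeg psi) {n₀ : Y} (hn₀ : Rp cs R.nsys (w0 cs) n₀) (i : I)
    (nu : ↥T →* ℂˣ)
    (hnu : ∀ t (ht : t ∈ T) (ht' : n i * t * (n i)⁻¹ ∈ T), nu ⟨n i * t * (n i)⁻¹, ht'⟩ = nu ⟨t, ht⟩) :
    SE psi (n i) (wE R psi nu n₀) = alf R psi hn₀ i nu • wE R psi nu n₀ := by
  apply Subtype.ext
  rw [SE_coe, Submodule.coe_smul]
  exact ta_n_wv R hpsi hn₀ i nu hnu

end Cfsg.Agent.H684.OQ
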