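import Cfsg.Agent.H684.OQ.Whit

/-!
# S4884, own odd characteristic: nondegenerate characters of `U` (helper684)
-/

set_option autoImplicit false
set_option linter.unusedSectionVars false

open Cfsg

namespace Cfsg.Agent.H684.OQ

open CoxeterSystem Cfsg.Agent.ChevalleyStructure.CoxeterGeom Cfsg.Agent.Tits.Roots Cfsg.Agent.Tits.Core
  Cfsg.Agent.Tits.Exchange Cfsg.Agent.Nodes.Reps Cfsg.Agent.Nodes.BNOf Cfsg.Agent.Nodes.StabComb
  Cfsg.Agent.Nodes.Bruhat Cfsg.Agent.Nodes.OppDec Cfsg.Agent.Nodes.LeviDec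

universe u

theorem exists_proj {Y : Type u} [Group Y] {P V K : Subgroup Y} (hK : K ≤ P) (hV : V ≤ P)
    (hn : K ≤ Subgroup.normalizer (V : Set Y)) (hmul : ∀ x ∈ P, ∃ v ∈ V, ∃ k ∈ K, x = v * k)
    (hdis : ∀ x ∈ K, x ∈ V → x = 1) :
    ∃ π : ↥P →* ↥K, (∀ k (hk : k ∈ K), π ⟨k, hK hk⟩ = ⟨k, hk⟩) ∧ ∀ v (hv : v ∈ V), π ⟨v, hV hv⟩ = 1 := by
  have key : ∀ x : ↥P, ∃ k : ↥K, (x : Y) * (k : Y)⁻¹ ∈ V := by
    intro x
    obtain ⟨v, hv, k, hk, e⟩ := hmul x x.2
    refine ⟨⟨k, hk⟩, ?_⟩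
    rw [e]
    simpa using hv
  choose f hf using key
  have huniq : ∀ (x : ↥P) (k : ↥K), (x : Y) * (k : Y)⁻¹ ∈ V → f x = k := by
    intro x k hk
    have h1 : (k : Y) * (f x : Y)⁻¹ ∈ V := by
      have e : (k : Y) * (f x : Y)⁻¹ = ((x : Y) * (k : Y)⁻¹)⁻¹ * ((x : Y) * (f x : Y)⁻¹) := by group
      rw [e]
      exact mul_mem (inv_mem hk) (hf x)
    have h2 := hdis _ (mul_mem k.2 (inv_mem (f x).2)) h1
    exact Subtype.ext (mul_inv_eq_one.1 h2).symm
  refine ⟨{ toFun := f, map_one' := ?_, map_mul' := ?_ }, ?_, ?_⟩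
  · refine huniq 1 1 ?_
    simp
  · intro a b
    refine huniq (a * b) (f a * f b) ?_
    have h1 := (Subgroup.mem_normalizer_iff.1 (hn (f a).2) ((b : Y) * (f b : Y)⁻¹)).1 (hf b)
    have e : ((a * b : ↥P) : Y) * ((f a * f b : ↥K) : Y)⁻¹ =
        ((a : Y) * (f a : Y)⁻¹) * ((f a : Y) * ((b : Y) * (f b : Y)⁻¹) * (f a : Y)⁻¹) := by
      push_cast
      group
    rw [e]
    exact mul_mem (hf a) h1
  · intro k hk
    refine huniq _ _ ?_
    simp
  · intro v hv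
    refine huniq _ _ ?_
    simpa using hv

/-- a nontrivial finite `p`-group has a nontrivial linear character -/
theorem exists_lin {P : Type u} [Group P] [Finite P] [Nontrivial P] {p : ℕ} [Fact p.Prime] (hP : IsPGroup p P) :
    ∃ f : P →* ℂˣ, f ≠ 1 := by
  have : Group.IsNilpotent P := hP.isNilpotent
  have h1 : commutator P < ⊤ := Group.IsSolvable.commutator_lt_top_of_nontrivial (G := P)
  obtain ⟨x, -, hx⟩ := SetLike.exists_of_lt h1
  have hx1 : (Abelianization.of x) ≠ 1 := by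
    intro h2
    apply hx
    have : x ∈ (Abelianization.of : P →* Abelianization P).ker := h2
    rwa [Abelianization.ker_of] at this
  have : Finite (Abelianization P) := inferInstance
  obtain ⟨f, hf⟩ := CommGroup.exists_apply_ne_one_of_hasEnoughRootsOfUnity (Abelianization P) ℂ hx1
  refine ⟨f.comp Abelianization.of, fun h2 => hf ?_⟩
  exact congrArg (fun g => g x) h2

variable {I W : Type*} {Y : Type u} [Fintype I] [DecidableEq I] [Group W] [Finite W] [Group Y] [Finite Y]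
  {M : CoxeterMatrix I} {cs : CoxeterSystem M W} {A : I → I → ℤ} {h : IsCartan M A} {p : ℕ} {T : Subgroup Y}
  {n : I → Y} {X : (I → ℤ) → Subgroup Y} (R : RGD cs h p T n X)

include R

theorem exists_projX (i : I) : ∃ π : ↥(UU cs h X) →* ↥(X (sr i)),
    (∀ x (hx : x ∈ X (sr i)), π ⟨x, X_le_U i hx⟩ = ⟨x, hx⟩) ∧
    ∀ v (hv : v ∈ RGD.Sup X (RGD.PosNe cs h i)), π ⟨v, V_le_U i hv⟩ = 1 :=
  exists_proj (X_le_U i) (V_le_U i) (R.X_le_normalizer_V i) (fun x hx => by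
    obtain ⟨v, hv, k, hk, e⟩ := exists_vx R i hx
    exact ⟨v, hv, k, hk, e⟩) fun x hx hv => eq_one_of_mem_V R hx hv

/-- **a nondegenerate character with a given component** -/
theorem exists_psi [Fact p.Prime] : ∀ (i₀ : I) (f : ↥(X (sr i₀)) →* ℂˣ), f ≠ 1 →
    ∃ psi : ↥(UU cs h X) →* ℂˣ, Nondeg psi ∧ ∀ x (hx : x ∈ X (sr i₀)), psi ⟨x, X_le_U i₀ hx⟩ = f ⟨x, hx⟩ := by
  classical
  intro i₀ f hf
  choose π hπ1 hπ2 using exists_projX R
  have h1 : ∀ i : I, ∃ f : ↥(X (sr i)) →* ℂˣ, f ≠ 1 := by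
    intro i
    obtain ⟨u, hu, hu1⟩ := exists_ne_one R i
    have : Nontrivial ↥(X (sr i)) := ⟨⟨⟨u, hu⟩, 1, fun h2 => hu1 (congrArg Subtype.val h2)⟩⟩
    exact exists_lin (R.pgrp' (isRoot_sr cs h i))
  choose g hg using h1
  let F : ∀ i : I, ↥(X (sr i)) →* ℂˣ := Function.update g i₀ f
  have hF : ∀ i, F i ≠ 1 := by
    intro i
    by_cases hi : i = i₀
    · subst hi
      simpa [F] using hf
    · simpa [F, hi] using hg i
  have hval : ∀ i x (hx : x ∈ X (sr i)), (∏ j, (F j).comp (π j)) ⟨x, X_le_U i hx⟩ = F i ⟨x, hx⟩ := by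
    intro i x hx
    rw [MonoidHom.finsetProd_apply, Finset.prod_eq_single i]
    · rw [MonoidHom.comp_apply, hπ1 i x hx]
    · intro j _ hj
      have hx' : x ∈ RGD.Sup X (RGD.PosNe cs h j) :=
        RGD.le_Sup (S := RGD.PosNe cs h j) ⟨isRoot_sr cs h i, sr_nonneg i, fun he => hj (by
          by_contra hne
          have h3 := congrFun he i
          rw [sr_self, sr_ne (Ne.symm hj)] at h3
          exact one_ne_zero h3)⟩ hx
      rw [MonoidHom.comp_apply, hπ2 j x hx', map_one]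
    · intro hi
      exact absurd (Finset.mem_univ i) hi
  refine ⟨∏ j, (F j).comp (π j), ?_, ?_⟩
  · intro i
    have h2 : ∃ x, F i x ≠ 1 := by
      by_contra hcon
      push Not at hcon
      exact hF i (MonoidHom.ext hcon)
    obtain ⟨x, hx⟩ := h2
    exact ⟨x, x.2, by rw [hval i x x.2]; exact hx⟩
  · intro x hx
    rw [hval i₀ x hx]
    simp [F]

end Cfsg.Agent.H684.OQ
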