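import Cfsg.Agent.H684.OQ.Mod

/-!
# S4884, own odd characteristic: the product of the factors is a natural number (helper684)
-/

set_option autoImplicit false
set_option linter.unusedSectionVars false

open Cfsg

namespace Cfsg.Agent.H684.OQ

open CoxeterSystem Cfsg.Agent.ChevalleyStructure.CoxeterGeom Cfsg.Agent.Tits.Roots Cfsg.Agent.Tits.Core
  Cfsg.Agent.Tits.Exchange Cfsg.Agent.Nodes.Reps Cfsg.Agent.Nodes.BNOf Cfsg.Agent.Nodes.StabComb
  Cfsg.Agent.Nodes.Bruhat Cfsg.Agent.Nodes.OppDec Cfsg.Agent.Nodes.LeviDec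

universe u v

variable {I W : Type*} {Y : Type u} [Fintype I] [DecidableEq I] [Group W] [Finite W] [Group Y] [Finite Y]
  {M : CoxeterMatrix I} {cs : CoxeterSystem M W} {A : I → I → ℤ} {h : IsCartan M A} {p : ℕ} {T : Subgroup Y}
  {n : I → Y} {X : (I → ℤ) → Subgroup Y}

/-- the conjugate `t ↦ lam (g⁻¹ t g)` -/
def cjl {g : Y} (hg : g ∈ Subgroup.normalizer (T : Set Y)) (lam : ↥T →* ℂˣ) : ↥T →* ℂˣ :=
  lam.comp
    { toFun := fun t => ⟨g⁻¹ * t * g, by
        have := (Subgroup.mem_normalizer_iff.1 (inv_mem hg) (t : Y)).1 t.2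
        rwa [inv_inv] at this⟩
      map_one' := Subtype.ext (by simp)
      map_mul' := fun a b => Subtype.ext (by simp only [Subgroup.coe_mul]; group) }

theorem cjl_apply {g : Y} (hg : g ∈ Subgroup.normalizer (T : Set Y)) (lam : ↥T →* ℂˣ) {t : Y} (ht : t ∈ T)
    (ht' : g⁻¹ * t * g ∈ T) : cjl hg lam ⟨t, ht⟩ = lam ⟨g⁻¹ * t * g, ht'⟩ := rfl

theorem cjl_sq {g : Y} (hg : g ∈ Subgroup.normalizer (T : Set Y)) {lam : ↥T →* ℂˣ}
    (h2 : ∀ t, lam t * lam t = 1) (t : ↥T) : cjl hg lam t * cjl hg lam t = 1 := h2 _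

variable (R : RGD cs h p T n X) {E : Type v} [AddCommGroup E] [Module ℂ E] {S : Y → Module.End ℂ E}

include R

/-- vectors of the weights, spanning the weight spaces -/
structure WSys (T : Subgroup Y) (S : Y → Module.End ℂ E) (v : (↥T →* ℂˣ) → E) : Prop where
  wt : ∀ nu t (ht : t ∈ T), S t (v nu) = ((nu ⟨t, ht⟩ : ℂˣ) : ℂ) • v nu
  span : ∀ nu (a : E), (∀ t (ht : t ∈ T), S t a = ((nu ⟨t, ht⟩ : ℂˣ) : ℂ) • a) → ∃ c : ℂ, a = c • v nu
  ne : ∀ nu, v nu ≠ 0

theorem HRep.t_mul (H : HRep R S) {w : W} {t g : Y} (ht : t ∈ T) (hg : Rp cs R.nsys w g) :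
    S (t * g) = S t * S g := H.mul (rp_of_mem ht) hg (by rw [one_mul, cs.length_one, zero_add])

theorem HRep.mul_t (H : HRep R S) {w : W} {t g : Y} (hg : Rp cs R.nsys w g) (ht : t ∈ T) :
    S (g * t) = S g * S t := H.mul hg (rp_of_mem ht) (by rw [mul_one, cs.length_one, add_zero])

/-- the weight of `S g u` -/
theorem HRep.weight (H : HRep R S) {w : W} {g : Y} (hg : Rp cs R.nsys w g) {nu : ↥T →* ℂˣ} {u : E}
    (hu : ∀ t (ht : t ∈ T), S t u = ((nu ⟨t, ht⟩ : ℂˣ) : ℂ) • u) {t : Y} (ht : t ∈ T) :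
    S t (S g u) = ((cjl hg.mem_normalizer nu ⟨t, ht⟩ : ℂˣ) : ℂ) • S g u := by
  have ht' : g⁻¹ * t * g ∈ T := by
    have := (Subgroup.mem_normalizer_iff.1 (inv_mem hg.mem_normalizer) t).1 ht
    rwa [inv_inv] at this
  have e : t * g = g * (g⁻¹ * t * g) := by group
  rw [← Module.End.mul_apply, ← H.t_mul R ht hg, e, H.mul_t R hg ht', Module.End.mul_apply, hu _ ht', map_smul]
  rfl

omit R in
theorem eq_zero_of_weights {nu nu' : ↥T →* ℂˣ} {u : E}
    (hu : ∀ t (ht : t ∈ T), S t u = ((nu ⟨t, ht⟩ : ℂˣ) : ℂ) • u)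
    (hu' : ∀ t (ht : t ∈ T), S t u = ((nu' ⟨t, ht⟩ : ℂˣ) : ℂ) • u) (hne : nu ≠ nu') : u = 0 := by
  by_contra h0
  apply hne
  ext t
  have h1 := (hu t t.2).symm.trans (hu' t t.2)
  have h2 : (((nu t : ℂˣ) : ℂ) - ((nu' t : ℂˣ) : ℂ)) • u = 0 := by
    rw [sub_smul]
    exact sub_eq_zero.2 h1
  rcases smul_eq_zero.1 h2 with h3 | h3
  · exact sub_eq_zero.1 h3
  · exact absurd h3 h0

/-- the sum of the values at the `t_i(x)` -/
noncomputable def zet (i : I) (nu : ↥T →* ℂˣ) : ℂ := by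
  classical
  exact letI := Fintype.ofFinite ↥(X (sr i))
    ∑ x : X (sr i), if (x : Y) = 1 then 0 else ((nu ⟨tx R i x, tx_mem R i x⟩ : ℂˣ) : ℂ)

/-- `S(n_i)²` on a vector of weight `nu` -/
theorem HRep.sq (H : HRep R S) (i : I) {nu : ↥T →* ℂˣ} {u : E}
    (hu : ∀ t (ht : t ∈ T), S t u = ((nu ⟨t, ht⟩ : ℂˣ) : ℂ) • u) :
    S (n i) (S (n i) u) = ((Nat.card (X (sr i)) : ℂ)⁻¹ * ((nu ⟨n i * n i, R.sq_mem_T i⟩ : ℂˣ) : ℂ)) •
      (u + zet R i (cjl (rp_simple cs R.nsys i).mem_normalizer nu) • S (n i) u) := by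
  classical
  let _ := Fintype.ofFinite ↥(X (sr i))
  have hni := rp_simple cs R.nsys i
  rw [← Module.End.mul_apply, H.quad i, LinearMap.smul_apply, LinearMap.sum_apply, mul_smul]
  congr 1
  have h1 : ∀ x : X (sr i), (if x = 1 then S (n i * n i) else S (tx R i x) * S (n i) * S (n i * n i)) u =
      (if x = 1 then ((nu ⟨n i * n i, R.sq_mem_T i⟩ : ℂˣ) : ℂ) • u else 0) +
      (((nu ⟨n i * n i, R.sq_mem_T i⟩ : ℂˣ) : ℂ) * (if (x : Y) = 1 then 0 else
        ((cjl hni.mem_normalizer nu ⟨tx R i x, tx_mem R i x⟩ : ℂˣ) : ℂ))) • S (n i) u := by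
    intro x
    by_cases hx : x = 1
    · have hx' : (x : Y) = 1 := by rw [hx]; rfl
      rw [if_pos hx, if_pos hx, if_pos hx', mul_zero, zero_smul, add_zero, hu _ (R.sq_mem_T i)]
    · have hx' : (x : Y) ≠ 1 := fun h2 => hx (Subtype.ext h2)
      rw [if_neg hx, if_neg hx, if_neg hx', zero_add, Module.End.mul_apply, Module.End.mul_apply,
        hu _ (R.sq_mem_T i), map_smul, map_smul, H.weight R hni hu (tx_mem R i x), smul_smul]
  rw [Finset.sum_congr rfl fun x _ => h1 x, Finset.sum_add_distrib, Finset.sum_ite_eq' Finset.univ 1,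
    if_pos (Finset.mem_univ _), ← Finset.sum_smul, smul_add, smul_smul]
  congr 2
  unfold zet
  rw [Finset.mul_sum]

theorem HRep.inv_apply (H : HRep R S) (i : I) {nu : ↥T →* ℂˣ} {u : E}
    (hu : ∀ t (ht : t ∈ T), S t u = ((nu ⟨t, ht⟩ : ℂˣ) : ℂ) • u) (a : ℂ)
    (ha : S (n i) (S (n i) u) = (a * ((nu ⟨n i * n i, R.sq_mem_T i⟩ : ℂˣ) : ℂ)) • u) :
    S (n i)⁻¹ (S (n i) u) = a • u := by
  have hni := rp_simple cs R.nsys i
  have e : (n i)⁻¹ = (n i * n i)⁻¹ * n i := by group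
  have h1 := inv_mem (R.sq_mem_T i)
  rw [e, H.t_mul R h1 hni, Module.End.mul_apply, ha, map_smul, hu _ h1, smul_smul]
  congr 1
  have e2 : (⟨(n i * n i)⁻¹, h1⟩ : ↥T) = (⟨n i * n i, R.sq_mem_T i⟩ : ↥T)⁻¹ := rfl
  rw [e2, map_inv, mul_assoc, Units.mul_inv, mul_one]

variable {v : (↥T →* ℂˣ) → E}

/-- **`S(n_i⁻¹) S(n_i)` on the vector of weight `nu`** -/
theorem HRep.kappa (H : HRep R S) (hc : ∀ a ∈ T, ∀ b ∈ T, a * b = b * a) (V : WSys T S v) (i : I) (nu : ↥T →* ℂˣ)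
    (hfix : cjl (rp_simple cs R.nsys i).mem_normalizer nu = nu → ∃ (α : ℂ) (m : ℕ), S (n i) (v nu) = α • v nu ∧
      (1 + zet R i nu * α) * m = 1) :
    ∃ (k : ℂ) (m : ℕ), S (n i)⁻¹ (S (n i) (v nu)) = k • v nu ∧ (Nat.card (X (sr i)) : ℂ) * k * m = 1 := by
  have hni := rp_simple cs R.nsys i
  have hq := card_ne (X (sr i))
  have h1 := H.sq R i (V.wt nu)
  by_cases hcj : cjl hni.mem_normalizer nu = nu
  · obtain ⟨α, m, ha, hm⟩ := hfix hcj
    refine ⟨(Nat.card (X (sr i)) : ℂ)⁻¹ * (1 + zet R i nu * α), m, ?_, ?_⟩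
    · refine H.inv_apply R i (V.wt nu) _ ?_
      rw [h1, hcj, ha, smul_smul]
      have : v nu + (zet R i nu * α) • v nu = (1 + zet R i nu * α) • v nu := by rw [add_smul, one_smul]
      rw [this, smul_smul]
      congr 1
      ring
    · rw [← mul_assoc, mul_inv_cancel₀ hq, one_mul, hm]
  · refine ⟨(Nat.card (X (sr i)) : ℂ)⁻¹, 1, ?_, by rw [mul_inv_cancel₀ hq, Nat.cast_one, one_mul]⟩
    refine H.inv_apply R i (V.wt nu) _ ?_
    rw [h1, smul_add]
    have hμ : ((Nat.card (X (sr i)) : ℂ)⁻¹ * ((nu ⟨n i * n i, R.sq_mem_T i⟩ : ℂˣ) : ℂ)) ≠ 0 :=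
      mul_ne_zero (inv_ne_zero hq) (Units.ne_zero _)
    suffices hz : ((Nat.card (X (sr i)) : ℂ)⁻¹ * ((nu ⟨n i * n i, R.sq_mem_T i⟩ : ℂˣ) : ℂ)) •
        zet R i (cjl hni.mem_normalizer nu) • S (n i) (v nu) = 0 by
      rw [hz, add_zero]
    -- the vector has the weights `nu` and `n_i nu`
    set z := ((Nat.card (X (sr i)) : ℂ)⁻¹ * ((nu ⟨n i * n i, R.sq_mem_T i⟩ : ℂˣ) : ℂ)) •
      zet R i (cjl hni.mem_normalizer nu) • S (n i) (v nu) with hzdef
    have hz1 : ∀ t (ht : t ∈ T), S t z = ((cjl hni.mem_normalizer nu ⟨t, ht⟩ : ℂˣ) : ℂ) • z := by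
      intro t ht
      rw [hzdef, map_smul, map_smul, H.weight R hni (V.wt nu) ht]
      simp only [smul_smul]
      congr 1
      ring
    have hz2 : ∀ t (ht : t ∈ T), S t z = ((nu ⟨t, ht⟩ : ℂˣ) : ℂ) • z := by
      intro t ht
      have e1 : z = S (n i) (S (n i) (v nu)) -
          ((Nat.card (X (sr i)) : ℂ)⁻¹ * ((nu ⟨n i * n i, R.sq_mem_T i⟩ : ℂˣ) : ℂ)) • v nu := by
        rw [h1, smul_add, add_sub_cancel_left]
      have e2 : S t (S (n i) (S (n i) (v nu))) = ((nu ⟨t, ht⟩ : ℂˣ) : ℂ) • S (n i) (S (n i) (v nu)) := by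
        have h3 := H.weight R hni (nu := cjl hni.mem_normalizer nu) (u := S (n i) (v nu))
          (fun t ht => H.weight R hni (V.wt nu) ht) ht
        rw [h3]
        congr 2
        have ht1 : (n i)⁻¹ * t * n i ∈ T := by
          have := (Subgroup.mem_normalizer_iff.1 (inv_mem hni.mem_normalizer) t).1 ht
          rwa [inv_inv] at this
        rw [cjl_apply hni.mem_normalizer _ ht ht1]
        have ht2 : (n i)⁻¹ * ((n i)⁻¹ * t * n i) * n i ∈ T := by
          have := (Subgroup.mem_normalizer_iff.1 (inv_mem hni.mem_normalizer) _).1 ht1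
          rwa [inv_inv] at this
        rw [cjl_apply hni.mem_normalizer _ ht1 ht2]
        congr 1
        apply Subtype.ext
        show (n i)⁻¹ * ((n i)⁻¹ * t * n i) * n i = t
        have h4 := hc t ht _ (R.sq_mem_T i)
        calc (n i)⁻¹ * ((n i)⁻¹ * t * n i) * n i = (n i * n i)⁻¹ * (t * (n i * n i)) := by group
          _ = t := by rw [h4]; group
      rw [e1, map_sub, map_smul, e2, V.wt nu t ht, smul_sub]
      simp only [smul_smul]
      congr 2
      ring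
    exact eq_zero_of_weights (T := T) (S := S) hz1 hz2 hcj

omit R in
theorem inverse_apply {a : Module.End ℂ E} (ha : IsUnit a) {u : E} {k : ℂ} (hk : k ≠ 0) (hu : a u = k • u) :
    Ring.inverse a u = k⁻¹ • u := by
  obtain ⟨b, rfl⟩ := ha
  rw [Ring.inverse_unit]
  have h1 : (b⁻¹.1 : Module.End ℂ E) (b.1 u) = u := by
    rw [← Module.End.mul_apply, Units.inv_mul, Module.End.one_apply]
  have h2 : u = k • (b⁻¹.1 : Module.End ℂ E) u := by
    rw [← map_smul, ← hu, h1]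
  conv_rhs => rw [h2]
  rw [smul_smul, inv_mul_cancel₀ hk, one_smul]

/-- **the product of the factors is a natural number** -/
theorem HRep.exists_nat (H : HRep R S) (hc : ∀ a ∈ T, ∀ b ∈ T, a * b = b * a) (V : WSys T S v)
    (hfix : ∀ (i : I) (nu : ↥T →* ℂˣ), (∀ t, nu t * nu t = 1) →
      cjl (rp_simple cs R.nsys i).mem_normalizer nu = nu → ∃ (α : ℂ) (m : ℕ), S (n i) (v nu) = α • v nu ∧
      (1 + zet R i nu * α) * m = 1) {S' : Y → Module.End ℂ E} (H' : HRep R S') (hT : ∀ t ∈ T, S' t = S t)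
    (hd : ∀ i, IsUnit (S (n i)⁻¹ * S (n i)) ∧ S' (n i)⁻¹ * S' (n i) =
      ((Nat.card (X (sr i)) : ℂ)⁻¹ * (Nat.card (X (sr i)) : ℂ)⁻¹) • Ring.inverse (S (n i)⁻¹ * S (n i))) :
    ∀ (w : W) (g : Y), Rp cs R.nsys w g → ∀ nu : ↥T →* ℂˣ, (∀ t, nu t * nu t = 1) →
      ∃ m : ℕ, qc R w • S' g⁻¹ (S' g (v nu)) = (m : ℂ) • v nu := by
  intro w
  induction hl : cs.length w generalizing w with
  | zero =>
    intro g hg nu _
    have h1 : w = 1 := cs.length_eq_zero_iff.1 hl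
    subst h1
    refine ⟨1, ?_⟩
    have hg1 := hg.mem_of_one
    rw [qc_one, one_smul, hT _ hg1, hT _ (inv_mem hg1), V.wt nu g hg1, map_smul, V.wt nu _ (inv_mem hg1), smul_smul,
      Nat.cast_one, one_smul]
    have e2 : (⟨g⁻¹, inv_mem hg1⟩ : ↥T) = (⟨g, hg1⟩ : ↥T)⁻¹ := rfl
    rw [e2, map_inv, Units.mul_inv, one_smul]
  | succ N ih =>
    intro g hg nu hnu
    obtain ⟨i, hi⟩ := cs.exists_rightDescent_of_ne_one (w := w) (fun h1 => by
      rw [h1, cs.length_one] at hl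
      exact absurd hl (Nat.succ_ne_zero N).symm)
    have hi' := cs.isRightDescent_iff.1 hi
    have hni := rp_simple cs R.nsys i
    set w' := w * cs.simple i with hw'
    have hww : w = w' * cs.simple i := by rw [hw', mul_assoc, cs.simple_mul_simple_self, mul_one]
    have hl' : cs.length w' = N := by omega
    have hg' : Rp cs R.nsys w' (g * (n i)⁻¹) := by
      have := hg.mul hni.inv
      rwa [cs.inv_simple] at this
    have hlen : cs.length (w' * cs.simple i) = cs.length w' + cs.length (cs.simple i) := by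
      rw [← hww, cs.length_simple]; omega
    have e1 : S' g = S' (g * (n i)⁻¹) * S' (n i) := by
      rw [← H'.mul hg' hni hlen, inv_mul_cancel_right]
    have e2 : S' g⁻¹ = S' (n i)⁻¹ * S' (g * (n i)⁻¹)⁻¹ := by
      have hlen2 : cs.length ((cs.simple i)⁻¹ * w'⁻¹) = cs.length (cs.simple i)⁻¹ + cs.length w'⁻¹ := by
        rw [← mul_inv_rev, cs.length_inv, cs.length_inv, cs.length_inv, hlen, add_comm]
      rw [← H'.mul hni.inv hg'.inv hlen2]
      congr 1
      group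
    have hq : qc R w = qc R w' * qc R (cs.simple i) := by
      rw [hww, qc_mul R hlen]
    obtain ⟨d, hdv⟩ := V.span (cjl hni.mem_normalizer nu) (S' (n i) (v nu)) (fun t ht => by
      rw [← hT t ht]
      exact H'.weight R hni (fun t ht => by rw [hT t ht]; exact V.wt nu t ht) ht)
    obtain ⟨m', hm'⟩ := ih w' hl' _ hg' (cjl hni.mem_normalizer nu) (cjl_sq hni.mem_normalizer hnu)
    obtain ⟨k, m, hk, hkm⟩ := H.kappa R hc V i nu (hfix i nu hnu)
    have hk0 : k ≠ 0 := by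
      rintro rfl
      rw [mul_zero, zero_mul] at hkm
      exact zero_ne_one hkm
    have h5 : S' (n i)⁻¹ (S' (n i) (v nu)) =
        ((Nat.card (X (sr i)) : ℂ)⁻¹ * (Nat.card (X (sr i)) : ℂ)⁻¹ * k⁻¹) • v nu := by
      rw [← Module.End.mul_apply, (hd i).2, LinearMap.smul_apply, inverse_apply (hd i).1 hk0 hk, smul_smul]
    refine ⟨m' * m, ?_⟩
    have h6 : qc R w' • S' (g * (n i)⁻¹)⁻¹ (S' (g * (n i)⁻¹) (S' (n i) (v nu))) = (m' : ℂ) • S' (n i) (v nu) := by
      rw [hdv, map_smul, map_smul, smul_comm, hm', smul_comm]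
    calc qc R w • S' g⁻¹ (S' g (v nu))
        = qc R (cs.simple i) • S' (n i)⁻¹ (qc R w' • S' (g * (n i)⁻¹)⁻¹ (S' (g * (n i)⁻¹) (S' (n i) (v nu)))) := by
          rw [e1, e2, hq, Module.End.mul_apply, Module.End.mul_apply, map_smul, smul_smul, mul_comm]
      _ = _ := by
          rw [h6, map_smul, h5, qc_simple, smul_smul, smul_smul]
          congr 1
          have hq0 := card_ne (X (sr i))
          have hm : (m : ℂ) = ((Nat.card (X (sr i)) : ℂ) * k)⁻¹ := by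
            refine eq_inv_of_mul_eq_one_left ?_
            rw [mul_comm]
            exact hkm
          rw [Nat.cast_mul, hm]
          field_simp

end Cfsg.Agent.H684.OQ
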